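import Groth.Prelude.Def_Red

/-!
# Base change along a composite, as an isomorphism of group schemes
-/

universe u

open CategoryTheory CategoryTheory.Limits MonoidalCategory CartesianMonoidalCategory MonObj AlgebraicGeometry

namespace Groth.Agent.Red23Lib

variable {S : Scheme.{u}}

/-- A natural transformation between base change functors respects group laws. -/
theorem isMonHom_natTrans_app {S' : Scheme.{u}} {F F' : Over S ⥤ Over S'} [F.Monoidal] [F'.Monoidal]
    (α : F ⟶ F') (G : Over S) [GrpObj G] :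
    letI : GrpObj (F.obj G) := Functor.grpObjObj
    letI : GrpObj (F'.obj G) := Functor.grpObjObj
    IsMonHom (α.app G) :=
  ((Functor.mapMonNatTrans α).app (Mon.mk G)).isMonHom_hom

set_option backward.isDefEq.respectTransparency false in
/-- `(G_{S'})_{S''} ≅ G_{S''}`. -/
noncomputable def bcCompIso {S' S'' : Scheme.{u}} (g : S'' ⟶ S') (f : S' ⟶ S) (G : Over S) [GrpObj G] :
    Grp.mk (Red.bc (g ≫ f) G) ≅ Grp.mk (Red.bc g (Red.bc f G)) :=
  let e : Red.bc (g ≫ f) G ≅ Red.bc g (Red.bc f G) := (Over.pullbackComp g f).app G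
  haveI : IsMonHom e.hom := by
    have h := isMonHom_natTrans_app (Over.pullbackComp g f).hom G
    have h1 := h.one_hom
    have h2 := h.mul_hom
    constructor
    · refine h1.trans ?_
      change _ ≫ _ = _ ≫ _
      simp [Functor.LaxMonoidal.comp_ε]
    · refine h2.trans (congrArg (_ ≫ ·) ?_)
      change _ ≫ _ = _ ≫ _
      simp [Functor.LaxMonoidal.comp_μ]
  Grp.mkIso e (IsMonHom.one_hom _) (IsMonHom.mul_hom _)

/-- Base changes along equal morphisms. -/
noncomputable def bcCongrIso {S' : Scheme.{u}} {f f' : S' ⟶ S} (h : f = f') (G : Over S) [GrpObj G] :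
    Grp.mk (Red.bc f G) ≅ Grp.mk (Red.bc f' G) :=
  eqToIso (by subst h; rfl)

/-- Base change of an isomorphism of group schemes. -/
noncomputable def bcMapIso {S' : Scheme.{u}} (f : S' ⟶ S) {G H : Over S} [GrpObj G] [GrpObj H]
    (e : Grp.mk G ≅ Grp.mk H) : Grp.mk (Red.bc f G) ≅ Grp.mk (Red.bc f H) :=
  (Functor.mapGrp (Over.pullback f)).mapIso e

/-- A morphism of group schemes which is multiplicative on points is a homomorphism. -/
theorem isMonHom_of_mul {G H : Over S} [GrpObj G] [GrpObj H] (f : G ⟶ H)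
    (hf : ∀ (T : Over S) (a b : T ⟶ G), (a * b) ≫ f = (a ≫ f) * (b ≫ f)) : IsMonHom f where
  one_hom := by
    have h := hf (𝟙_ _) 1 1
    rw [_root_.one_mul] at h
    simpa [MonObj.one_eq_one] using h
  mul_hom := by
    have h := hf (G ⊗ G) (fst G G) (snd G G)
    rw [Hom.mul_def, lift_fst_snd, Category.id_comp, Hom.mul_def] at h
    rw [h]
    congr 1

end Groth.Agent.Red23Lib
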