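import Groth.Agent.GrpSchLib.RankOneDense
import Groth.Agent.GrpSchLib.RankOneNonComm
import Groth.Agent.GrpSchLib.Shear
import Mathlib.AlgebraicGeometry.Sites.Fpqc

/-!
# Extending a morphism from an open cell to a homomorphism
-/

set_option autoImplicit false
set_option linter.style.haveILetI false

universe u

open CategoryTheory CategoryTheory.Limits AlgebraicGeometry MonoidalCategory CartesianMonoidalCategory
open Groth.Agent.GrpSchLib
open scoped MonObj

noncomputable section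

namespace Groth.Agent.Red23Lib.Extend

variable {S : Scheme.{u}}

/-- An open subscheme of an `S`-scheme. -/
abbrev sub (X : Over S) (O : X.left.Opens) : Over S := Over.mk (O.ι ≫ X.hom)

/-- The inclusion of an open subscheme. -/
def subι (X : Over S) (O : X.left.Opens) : sub X O ⟶ X := Over.homMk O.ι rfl

set_option backward.isDefEq.respectTransparency.types false in
theorem flat_fst (X Y : Over S) [Flat Y.hom] : Flat (fst X Y).left :=
  MorphismProperty.pullback_fst (P := @Flat) X.hom Y.hom inferInstance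

/-- An open part of `X ⊗ Y` meeting every geometric fibre over `X` gives an epimorphism. -/
theorem epi_subι_fst (X Y : Over S) [Flat Y.hom] (O : (X ⊗ Y).left.Opens) {X' : Over S} (q : X' ⟶ sub (X ⊗ Y) O)
    [IsOpenImmersion q.left]
    (h : ∀ (K : Type u) [Field K] [IsAlgClosed K] (b : Spec (CommRingCat.of K) ⟶ S) (r : Over.mk b ⟶ X),
      ∃ p : Over.mk b ⟶ X', p ≫ q ≫ subι (X ⊗ Y) O ≫ fst X Y = r) :
    Epi (q ≫ subι (X ⊗ Y) O ≫ fst X Y) := by
  haveI := flat_fst X Y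
  haveI : Flat (q ≫ subι (X ⊗ Y) O ≫ fst X Y).left := by
    show Flat (q.left ≫ O.ι ≫ (fst X Y).left)
    infer_instance
  haveI : Surjective (q ≫ subι (X ⊗ Y) O ≫ fst X Y).left := ⟨fun x => by
    let K := AlgebraicClosure (X.left.residueField x)
    let pt : Spec (CommRingCat.of K) ⟶ X.left :=
      Spec.map (CommRingCat.ofHom (algebraMap (X.left.residueField x) K)) ≫ X.left.fromSpecResidueField x
    obtain ⟨p, hp⟩ := h K (pt ≫ X.hom) (Over.homMk pt rfl)
    refine ⟨p.left (IsLocalRing.closedPoint K), ?_⟩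
    show (p ≫ q ≫ subι (X ⊗ Y) O ≫ fst X Y).left (IsLocalRing.closedPoint K) = x
    rw [hp]
    show (Spec.map _ ≫ X.left.fromSpecResidueField x) _ = x
    exact Scheme.fromSpecResidueField_apply x _⟩
  haveI := Flat.epi_of_flat_of_surjective (q ≫ subι (X ⊗ Y) O ≫ fst X Y).left
  exact Over.epi_of_epi_left _

theorem range_point {K : Type u} [Field K] {b : Spec (CommRingCat.of K) ⟶ S} {X : Over S} (g : Over.mk b ⟶ X)
    {U : Set X.left} (h : g.left (IsLocalRing.closedPoint K) ∈ U) : Set.range g.left ⊆ U := by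
  rintro _ ⟨z, rfl⟩
  obtain rfl : z = IsLocalRing.closedPoint K := Subsingleton.elim (α := Spec (CommRingCat.of K)) _ _
  exact h

variable {G : Over S} [GrpObj G] {P : Over S} (j : P ⟶ G) [IsOpenImmersion j.left]

theorem exists_lift {X : Over S} (g : X ⟶ G) (h : Set.range g.left ⊆ Set.range j.left) :
    ∃ p : X ⟶ P, p ≫ j = g :=
  ⟨Over.homMk (IsOpenImmersion.lift j.left g.left h) (by rw [← Over.w j, IsOpenImmersion.lift_fac_assoc, Over.w]),
    Over.OverMorphism.ext (IsOpenImmersion.lift_fac _ _ _)⟩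

theorem exists_lift_point {K : Type u} [Field K] {b : Spec (CommRingCat.of K) ⟶ S} (g : Over.mk b ⟶ G)
    (h : g.left (IsLocalRing.closedPoint K) ∈ Set.range j.left) : ∃ p : Over.mk b ⟶ P, p ≫ j = g :=
  exists_lift j g (range_point g h)

theorem mono_j : Mono j :=
  (Over.forget S).mono_of_mono_map (inferInstanceAs (Mono j.left))

instance isOpenImmersion_whisker (X : Over S) : IsOpenImmersion (X ◁ j).left := by
  have e : (X ◁ j).left = pullback.map X.hom P.hom X.hom G.hom (𝟙 _) j.left (𝟙 _) (by simp) (by simp) := by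
    apply pullback.hom_ext
    · rw [pullback.lift_fst, Category.comp_id]
      exact congrArg (fun r : _ ⟶ X => r.left) (whiskerLeft_fst X j)
    · rw [pullback.lift_snd]
      exact congrArg (fun r : _ ⟶ G => r.left) (whiskerLeft_snd X j)
  rw [e]
  infer_instance

variable (V : (P ⊗ P).left.Opens)

/-- The points `h` of `G` which are in the cell and compatible with `a`. -/
def slice {K : Type u} [Field K] {b : Spec (CommRingCat.of K) ⟶ S} (a : Over.mk b ⟶ P) :
    (Over.mk b ⊗ G).left.Opens :=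
  (Over.mk b ◁ j).left ''ᵁ ((lift (fst _ _ ≫ a) (snd _ _)).left ⁻¹ᵁ V)

theorem mem_slice_iff {K : Type u} [Field K] {b : Spec (CommRingCat.of K) ⟶ S} (a : Over.mk b ⟶ P)
    (h : Over.mk b ⟶ G) :
    (lift (𝟙 _) h).left (IsLocalRing.closedPoint K) ∈ slice j V a ↔
      ∃ e : Over.mk b ⟶ P, e ≫ j = h ∧ (lift a e).left (IsLocalRing.closedPoint K) ∈ V := by
  have e1 : ∀ e : Over.mk b ⟶ P, lift (𝟙 _) e ≫ (Over.mk b ◁ j) = lift (𝟙 _) (e ≫ j) := fun e => by
    rw [lift_whiskerLeft]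
  have e2 : ∀ e : Over.mk b ⟶ P, lift (𝟙 _) e ≫ lift (fst _ _ ≫ a) (snd _ _) = lift a e := fun e => by
    rw [comp_lift, ← Category.assoc, lift_fst, lift_snd, Category.id_comp]
  constructor
  · rintro ⟨z, hz, hzh⟩
    obtain ⟨e, he⟩ := exists_lift_point j h ⟨(snd (Over.mk b) P).left z,
      (congrArg (fun m : Over.mk b ⊗ P ⟶ G => m.left z) (whiskerLeft_snd (Over.mk b) j).symm).trans
        ((congrArg (fun x => (snd (Over.mk b) G).left x) hzh).trans
          (congrArg (fun m : Over.mk b ⟶ G => m.left (IsLocalRing.closedPoint K)) (lift_snd (𝟙 _) h)))⟩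
    refine ⟨e, he, ?_⟩
    have hze : (lift (𝟙 _) e).left (IsLocalRing.closedPoint K) = z :=
      (Over.mk b ◁ j).left.isOpenEmbedding.injective ((congrArg
        (fun m : Over.mk b ⟶ Over.mk b ⊗ G => m.left (IsLocalRing.closedPoint K))
        ((e1 e).trans (by rw [he] : lift (𝟙 _) (e ≫ j) = lift (𝟙 _) h))).trans hzh.symm)
    rw [← e2, Over.comp_left]
    show (lift (fst _ _ ≫ a) (snd _ _)).left ((lift (𝟙 _) e).left (IsLocalRing.closedPoint K)) ∈ V
    rw [hze]
    exact hz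
  · rintro ⟨e, rfl, he⟩
    refine ⟨(lift (𝟙 _) e).left (IsLocalRing.closedPoint K), ?_, ?_⟩
    · show (lift (𝟙 _) e ≫ lift (fst _ _ ≫ a) (snd _ _)).left (IsLocalRing.closedPoint K) ∈ V
      rw [e2]
      exact he
    · show (lift (𝟙 _) e ≫ (Over.mk b ◁ j)).left _ = _
      rw [e1]

section Reductive

variable (hG : Red.IsReductive G)
include hG

/-- Two open conditions on a geometric fibre with points are satisfied by a common point. -/
theorem exists_mem_inf {K : Type u} [Field K] [IsAlgClosed K] {b : Spec (CommRingCat.of K) ⟶ S}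
    (W W' : (Over.mk b ⊗ G).left.Opens) (h₁ h₂ : Over.mk b ⟶ G)
    (m₁ : (lift (𝟙 _) h₁).left (IsLocalRing.closedPoint K) ∈ W)
    (m₂ : (lift (𝟙 _) h₂).left (IsLocalRing.closedPoint K) ∈ W') :
    ∃ h : Over.mk b ⟶ G, (lift (𝟙 _) h).left (IsLocalRing.closedPoint K) ∈ W ∧
      (lift (𝟙 _) h).left (IsLocalRing.closedPoint K) ∈ W' := by
  obtain ⟨h, a, c⟩ := RankOne.exists_point_mem hG b (𝟙 _) (𝟙 _) W W' h₁ h₂
    (by rw [Category.comp_id]; exact m₁) (by rw [Category.comp_id]; exact m₂)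
  rw [Category.comp_id] at a c
  exact ⟨h, a, c⟩

end Reductive

/-- The product of two points of the cell. -/
def prodMap : P ⊗ P ⟶ G := (fst P P ≫ j) * (snd P P ≫ j)

theorem comp_prodMap {X : Over S} (a c : X ⟶ P) : lift a c ≫ prodMap j = (a ≫ j) * (c ≫ j) := by
  rw [prodMap, MonObj.comp_mul, ← Category.assoc, lift_fst, ← Category.assoc, lift_snd]

variable (one : 𝟙_ (Over S) ⟶ P) (hone : one ≫ j = 1)
include hone

theorem toUnit_one_comp (X : Over S) : (toUnit X ≫ one) ≫ j = 1 := by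
  rw [Category.assoc, hone, MonObj.comp_one]

theorem one_mem_range {K : Type u} [Field K] (b : Spec (CommRingCat.of K) ⟶ S) :
    (1 : Over.mk b ⟶ G).left (IsLocalRing.closedPoint K) ∈ Set.range j.left := by
  rw [← toUnit_one_comp j one hone]
  exact ⟨_, rfl⟩

variable (hG : Red.IsReductive G) [IsAffineHom P.hom]
include hG

set_option backward.isDefEq.respectTransparency.types false in
theorem prodMap_props : Flat (prodMap j).left ∧ Surjective (prodMap j).left ∧ QuasiCompact (prodMap j).left := by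
  haveI : Smooth G.hom := hG.2.1
  haveI : IsAffineHom G.hom := hG.1
  refine ⟨?_, ⟨fun x => ?_⟩, ?_⟩
  · haveI : Flat P.hom := by rw [← Over.w j]; infer_instance
    haveI : Flat μ[G].left := by
      rw [GrpSchLib.mul_eq_id_whiskerRight]
      exact GrpSchLib.flat_whiskerRight_mul (𝟙 G)
    haveI : IsOpenImmersion (j ⊗ₘ j).left := by
      have e : (j ⊗ₘ j).left = pullback.map P.hom P.hom G.hom G.hom j.left j.left (𝟙 _) (by simp) (by simp) := by
        apply pullback.hom_ext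
        · rw [pullback.lift_fst]
          exact congrArg (fun r : _ ⟶ G => r.left) (tensorHom_fst j j)
        · rw [pullback.lift_snd]
          exact congrArg (fun r : _ ⟶ G => r.left) (tensorHom_snd j j)
      rw [e]
      infer_instance
    rw [show prodMap j = (j ⊗ₘ j) ≫ μ[G] by rw [prodMap, Hom.mul_def, lift_fst_comp_snd_comp]]
    show Flat ((j ⊗ₘ j).left ≫ μ[G].left)
    infer_instance
  · let K := AlgebraicClosure (G.left.residueField x)
    let pt : Spec (CommRingCat.of K) ⟶ G.left :=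
      Spec.map (CommRingCat.ofHom (algebraMap (G.left.residueField x) K)) ≫ G.left.fromSpecResidueField x
    let b : Spec (CommRingCat.of K) ⟶ S := pt ≫ G.hom
    let g : Over.mk b ⟶ G := Over.homMk pt rfl
    let ψ : Over.mk b ⊗ G ⟶ G := (snd _ _)⁻¹ * (fst _ _ ≫ g)
    have hψ : ∀ h : Over.mk b ⟶ G, lift (𝟙 _) h ≫ ψ = h⁻¹ * g := fun h => by
      simp only [ψ, MonObj.comp_mul, GrpObj.comp_inv, lift_snd, ← Category.assoc, lift_fst, Category.id_comp]
    obtain ⟨h, m₁, m₂⟩ := RankOne.exists_point_mem hG b (snd _ _) ψ j.left.opensRange j.left.opensRange 1 g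
      (by rw [lift_snd]; exact one_mem_range j one hone b)
      (by rw [hψ, inv_mul_cancel]; exact one_mem_range j one hone b)
    rw [lift_snd] at m₁
    rw [hψ] at m₂
    obtain ⟨a, ha⟩ := exists_lift_point j h m₁
    obtain ⟨c, hc⟩ := exists_lift_point j _ m₂
    refine ⟨(lift a c).left (IsLocalRing.closedPoint K), ?_⟩
    show (lift a c ≫ prodMap j).left (IsLocalRing.closedPoint K) = x
    rw [comp_prodMap, ha, hc, mul_inv_cancel_left]
    show (Spec.map _ ≫ G.left.fromSpecResidueField x) _ = x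
    exact Scheme.fromSpecResidueField_apply x _
  · haveI : IsAffineHom (pullback.fst P.hom P.hom) :=
      MorphismProperty.pullback_fst (P := @IsAffineHom) P.hom P.hom inferInstance
    haveI : IsAffineHom ((prodMap j).left ≫ G.hom) := by
      rw [Over.w]
      exact inferInstanceAs (IsAffineHom (pullback.fst _ _ ≫ P.hom))
    haveI := IsAffineHom.of_comp (prodMap j).left G.hom
    infer_instance

set_option backward.isDefEq.respectTransparency.types false in
/-- Every point is locally a product of two points of the cell. -/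
theorem exists_decomp {X : Over S} (g : X ⟶ G) :
    ∃ (Q : Over S) (q : Q ⟶ X) (a c : Q ⟶ P), Epi q ∧ q ≫ g = (a ≫ j) * (c ≫ j) := by
  obtain ⟨h1, h2, -⟩ := prodMap_props j one hone hG
  let Q : Over S := Over.mk (pullback.fst g.left (prodMap j).left ≫ X.hom)
  let q : Q ⟶ X := Over.homMk (pullback.fst g.left (prodMap j).left) rfl
  let k : Q ⟶ P ⊗ P := Over.homMk (pullback.snd g.left (prodMap j).left) (by
    show pullback.snd g.left (prodMap j).left ≫ (P ⊗ P).hom = pullback.fst g.left (prodMap j).left ≫ X.hom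
    rw [← Over.w (prodMap j), ← pullback.condition_assoc, Over.w g])
  haveI : Flat q.left := MorphismProperty.pullback_fst (P := @Flat) _ _ h1
  haveI : Surjective q.left := MorphismProperty.pullback_fst (P := @Surjective) _ _ h2
  haveI := Flat.epi_of_flat_of_surjective q.left
  refine ⟨Q, q, k ≫ fst P P, k ≫ snd P P, Over.epi_of_epi_left q, ?_⟩
  rw [← comp_prodMap, ← comp_lift, lift_fst_snd, Category.comp_id]
  exact Over.OverMorphism.ext pullback.condition

variable {H : Over S} [GrpObj H] (φ : P ⟶ H)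
  (hV : ∀ (K : Type u) [Field K] [IsAlgClosed K] (b : Spec (CommRingCat.of K) ⟶ S) (a : Over.mk b ⟶ P),
    (lift a (toUnit _ ≫ one)).left (IsLocalRing.closedPoint K) ∈ V)
  (hmul : ∀ (X : Over S) (a c : X ⟶ P), Set.range (lift a c).left ⊆ (V : Set (P ⊗ P).left) →
    ∃ e : X ⟶ P, e ≫ j = (a ≫ j) * (c ≫ j) ∧ e ≫ φ = (a ≫ φ) * (c ≫ φ))
include hV hmul

set_option maxHeartbeats 2000000 in
theorem phi_one (X : Over S) : toUnit X ≫ one ≫ φ = 1 := by
  haveI := mono_j j
  obtain ⟨e, h1, h2⟩ := hmul (𝟙_ (Over S)) one one (by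
    rintro _ ⟨z, rfl⟩
    let K := AlgebraicClosure ((𝟙_ (Over S)).left.residueField z)
    let pt : Spec (CommRingCat.of K) ⟶ (𝟙_ (Over S)).left :=
      Spec.map (CommRingCat.ofHom (algebraMap ((𝟙_ (Over S)).left.residueField z) K)) ≫ (𝟙_ (Over S)).left.fromSpecResidueField z
    let r : Over.mk (pt ≫ (𝟙_ (Over S)).hom) ⟶ 𝟙_ (Over S) := Over.homMk pt rfl
    have hr := hV K _ (r ≫ one)
    rw [toUnit_unique (toUnit _) r, ← comp_lift] at hr
    have hz : r.left (IsLocalRing.closedPoint K) = z := by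
      show (Spec.map _ ≫ (𝟙_ (Over S)).left.fromSpecResidueField z) _ = z
      exact Scheme.fromSpecResidueField_apply z _
    rw [← hz]
    exact hr)
  rw [hone, _root_.one_mul, ← hone, cancel_mono] at h1
  rw [h1, right_eq_mul] at h2
  rw [h2, MonObj.comp_one]

set_option maxHeartbeats 2000000 in
/-- Compatibility: the product of the values only depends on the product of the points. -/
theorem phi_mul_eq {X : Over S} (a c a' c' : X ⟶ P) (heq : (a ≫ j) * (c ≫ j) = (a' ≫ j) * (c' ≫ j)) :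
    (a ≫ φ) * (c ≫ φ) = (a' ≫ φ) * (c' ≫ φ) := by
  haveI := mono_j j
  haveI : Smooth G.hom := hG.2.1
  haveI : Flat P.hom := by rw [← Over.w j]; infer_instance
  let O₁ : (X ⊗ P).left.Opens :=
    (lift (fst X P ≫ c) (snd X P)).left ⁻¹ᵁ V ⊓ (lift (fst X P ≫ c') (snd X P)).left ⁻¹ᵁ V
  let Q₁ := sub (X ⊗ P) O₁
  let r₁ : Q₁ ⟶ X := subι _ O₁ ≫ fst X P
  let e₁ : Q₁ ⟶ P := subι _ O₁ ≫ snd X P
  have hl : ∀ d : X ⟶ P, lift (r₁ ≫ d) e₁ = subι _ O₁ ≫ lift (fst X P ≫ d) (snd X P) := fun d => by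
    simp [r₁, e₁, comp_lift]
  obtain ⟨u, hu, huφ⟩ := hmul Q₁ (r₁ ≫ c) e₁ (by
    rw [hl]; rintro _ ⟨z, rfl⟩; exact z.2.1)
  obtain ⟨v, hv, hvφ⟩ := hmul Q₁ (r₁ ≫ c') e₁ (by
    rw [hl]; rintro _ ⟨z, rfl⟩; exact z.2.2)
  let O₂ : Q₁.left.Opens := (lift (r₁ ≫ a) u).left ⁻¹ᵁ V ⊓ (lift (r₁ ≫ a') v).left ⁻¹ᵁ V
  let q := subι Q₁ O₂
  obtain ⟨w, hw, hwφ⟩ := hmul (sub Q₁ O₂) (q ≫ r₁ ≫ a) (q ≫ u) (by
    rw [← comp_lift]; rintro _ ⟨z, rfl⟩; exact z.2.1)
  obtain ⟨w', hw', hwφ'⟩ := hmul (sub Q₁ O₂) (q ≫ r₁ ≫ a') (q ≫ v) (by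
    rw [← comp_lift]; rintro _ ⟨z, rfl⟩; exact z.2.2)
  haveI : IsOpenImmersion q.left := inferInstanceAs (IsOpenImmersion O₂.ι)
  haveI : Epi (q ≫ r₁) := epi_subι_fst X P O₁ q fun K _ _ b r => by
    have hsl : ∀ d : Over.mk b ⟶ P, (lift (𝟙 _) (1 : Over.mk b ⟶ G)).left (IsLocalRing.closedPoint K) ∈ slice j V d :=
      fun d => (mem_slice_iff j V d 1).2 ⟨toUnit _ ≫ one, toUnit_one_comp j one hone _, hV K b d⟩
    -- the translated condition
    let τ : (Over.mk b ⟶ P) → (Over.mk b ⊗ G ⟶ Over.mk b ⊗ G) := fun d =>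
      lift (fst _ _) ((fst _ _ ≫ d ≫ j) * snd _ _)
    have hτ : ∀ (d : Over.mk b ⟶ P) (h : Over.mk b ⟶ G), lift (𝟙 _) h ≫ τ d = lift (𝟙 _) ((d ≫ j) * h) :=
      fun d h => by
        simp only [τ, comp_lift, MonObj.comp_mul, lift_fst, lift_snd, ← Category.assoc, Category.id_comp]
    obtain ⟨h₁, k₁, k₂⟩ := exists_mem_inf hG (slice j V (r ≫ c)) (slice j V (r ≫ c')) 1 1 (hsl _) (hsl _)
    obtain ⟨h₂, k₃, k₄⟩ := exists_mem_inf hG ((τ (r ≫ c)).left ⁻¹ᵁ slice j V (r ≫ a))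
      ((τ (r ≫ c')).left ⁻¹ᵁ slice j V (r ≫ a')) ((r ≫ c) ≫ j)⁻¹ ((r ≫ c') ≫ j)⁻¹
      (by
        show (lift (𝟙 _) _ ≫ τ _).left _ ∈ slice j V _
        rw [hτ, mul_inv_cancel]; exact hsl _)
      (by
        show (lift (𝟙 _) _ ≫ τ _).left _ ∈ slice j V _
        rw [hτ, mul_inv_cancel]; exact hsl _)
    obtain ⟨h, m₁, m₂⟩ := exists_mem_inf hG (slice j V (r ≫ c) ⊓ slice j V (r ≫ c'))
      ((τ (r ≫ c)).left ⁻¹ᵁ slice j V (r ≫ a) ⊓ (τ (r ≫ c')).left ⁻¹ᵁ slice j V (r ≫ a')) h₁ h₂ ⟨k₁, k₂⟩ ⟨k₃, k₄⟩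
    obtain ⟨e, he, hce⟩ := (mem_slice_iff j V _ _).1 m₁.1
    obtain ⟨e', he', hce'⟩ := (mem_slice_iff j V _ _).1 m₁.2
    obtain rfl : e' = e := (cancel_mono j).1 (he'.trans he.symm)
    have m₂a : (lift (𝟙 _) h ≫ τ (r ≫ c)).left (IsLocalRing.closedPoint K) ∈ slice j V (r ≫ a) := m₂.1
    have m₂b : (lift (𝟙 _) h ≫ τ (r ≫ c')).left (IsLocalRing.closedPoint K) ∈ slice j V (r ≫ a') := m₂.2
    rw [hτ] at m₂a m₂b
    obtain ⟨u', hu', hau⟩ := (mem_slice_iff j V _ _).1 m₂a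
    obtain ⟨v', hv', hav⟩ := (mem_slice_iff j V _ _).1 m₂b
    obtain ⟨p₁, hp₁⟩ : ∃ p₁ : Over.mk b ⟶ Q₁, p₁ ≫ subι _ O₁ = lift r e' := by
      have hr : Set.range (lift r e').left ⊆ Set.range O₁.ι := by
        rw [Scheme.Opens.range_ι]
        refine range_point _ ⟨?_, ?_⟩
        · show (lift r e' ≫ lift (fst X P ≫ c) (snd X P)).left _ ∈ V
          rw [comp_lift, ← Category.assoc, lift_fst, lift_snd]; exact hce
        · show (lift r e' ≫ lift (fst X P ≫ c') (snd X P)).left _ ∈ V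
          rw [comp_lift, ← Category.assoc, lift_fst, lift_snd]; exact hce'
      exact ⟨Over.homMk (IsOpenImmersion.lift O₁.ι (lift r e').left hr)
        (by
          show IsOpenImmersion.lift _ _ _ ≫ O₁.ι ≫ (X ⊗ P).hom = _
          rw [IsOpenImmersion.lift_fac_assoc, Over.w]), Over.OverMorphism.ext (IsOpenImmersion.lift_fac _ _ _)⟩
    have hpr : p₁ ≫ r₁ = r := by rw [← Category.assoc, hp₁, lift_fst]
    have hpe : p₁ ≫ e₁ = e' := by rw [← Category.assoc, hp₁, lift_snd]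
    have hpu : p₁ ≫ u = u' := (cancel_mono j).1 (by
      rw [Category.assoc, hu, MonObj.comp_mul, ← Category.assoc, ← Category.assoc p₁ r₁, hpr, ← Category.assoc, hpe,
        hu', he'])
    have hpv : p₁ ≫ v = v' := (cancel_mono j).1 (by
      rw [Category.assoc, hv, MonObj.comp_mul, ← Category.assoc, ← Category.assoc p₁ r₁, hpr, ← Category.assoc, hpe,
        hv', he'])
    have hr₂ : Set.range p₁.left ⊆ Set.range O₂.ι := by
      rw [Scheme.Opens.range_ι]
      refine range_point _ ⟨?_, ?_⟩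
      · show (p₁ ≫ lift (r₁ ≫ a) u).left _ ∈ V
        rw [comp_lift, ← Category.assoc, hpr, hpu]; exact hau
      · show (p₁ ≫ lift (r₁ ≫ a') v).left _ ∈ V
        rw [comp_lift, ← Category.assoc, hpr, hpv]; exact hav
    refine ⟨Over.homMk (IsOpenImmersion.lift O₂.ι p₁.left hr₂) (by
      show IsOpenImmersion.lift _ _ _ ≫ O₂.ι ≫ Q₁.hom = _
      rw [IsOpenImmersion.lift_fac_assoc, Over.w]), ?_⟩
    rw [← Category.assoc, show _ ≫ q = p₁ from Over.OverMorphism.ext (IsOpenImmersion.lift_fac _ _ _)]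
    exact hpr
  rw [← cancel_epi (q ≫ r₁)]
  have hww : w = w' := (cancel_mono j).1 (by
    have eu : (q ≫ u) ≫ j = ((q ≫ r₁ ≫ c) ≫ j) * ((q ≫ e₁) ≫ j) := by
      simp only [Category.assoc, hu, MonObj.comp_mul]
    have ev : (q ≫ v) ≫ j = ((q ≫ r₁ ≫ c') ≫ j) * ((q ≫ e₁) ≫ j) := by
      simp only [Category.assoc, hv, MonObj.comp_mul]
    rw [hw, hw', eu, ev, ← _root_.mul_assoc, ← _root_.mul_assoc]
    simp only [Category.assoc, ← MonObj.comp_mul]
    rw [heq])
  rw [hww, hwφ', Category.assoc q u, huφ, Category.assoc q v, hvφ] at hwφ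
  simp only [MonObj.comp_mul, ← _root_.mul_assoc, Category.assoc] at hwφ ⊢
  exact (mul_right_cancel hwφ).symm

set_option maxHeartbeats 2000000 in
/-- The extension to a homomorphism exists. -/
theorem exists_extension : ∃ f : G ⟶ H, IsMonHom f ∧ j ≫ f = φ := by
  haveI := mono_j j
  haveI : Smooth G.hom := hG.2.1
  haveI : Flat P.hom := by rw [← Over.w j]; infer_instance
  obtain ⟨hfl, hsu, hqc⟩ := prodMap_props j one hone hG
  let F : P ⊗ P ⟶ H := (fst P P ≫ φ) * (snd P P ≫ φ)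
  have hF : ∀ {X : Over S} (a c : X ⟶ P), lift a c ≫ F = (a ≫ φ) * (c ≫ φ) := fun a c => by
    simp only [F, MonObj.comp_mul, ← Category.assoc, lift_fst, lift_snd]
  haveI : EffectiveEpi (prodMap j).left := inferInstance
  have hdesc : ∀ {Z : Scheme.{u}} (g₁ g₂ : Z ⟶ (P ⊗ P).left),
      g₁ ≫ (prodMap j).left = g₂ ≫ (prodMap j).left → g₁ ≫ F.left = g₂ ≫ F.left := by
    intro Z g₁ g₂ hg
    let R : Over S := Over.mk (g₁ ≫ (P ⊗ P).hom)
    let k₁ : R ⟶ P ⊗ P := Over.homMk g₁ rfl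
    let k₂ : R ⟶ P ⊗ P := Over.homMk g₂ (by
      show g₂ ≫ (P ⊗ P).hom = g₁ ≫ (P ⊗ P).hom
      rw [← Over.w (prodMap j), ← Category.assoc, ← hg, Category.assoc])
    have e : k₁ ≫ prodMap j = k₂ ≫ prodMap j := Over.OverMorphism.ext hg
    rw [← lift_comp_fst_snd k₁, ← lift_comp_fst_snd k₂, comp_prodMap, comp_prodMap] at e
    have h := phi_mul_eq j V one hone hG φ hV hmul _ _ _ _ e
    rw [← hF, ← hF, lift_comp_fst_snd, lift_comp_fst_snd] at h
    exact congrArg (fun r : R ⟶ H => r.left) h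
  let fl : G.left ⟶ H.left := EffectiveEpi.desc (prodMap j).left F.left hdesc
  have hfl' : (prodMap j).left ≫ fl = F.left := EffectiveEpi.fac _ _ _
  let f : G ⟶ H := Over.homMk fl (by
    rw [← cancel_epi (prodMap j).left, reassoc_of% hfl', Over.w, Over.w])
  have hf : ∀ {X : Over S} (a c : X ⟶ P), ((a ≫ j) * (c ≫ j)) ≫ f = (a ≫ φ) * (c ≫ φ) := fun a c => by
    rw [← comp_prodMap, ← hF, Category.assoc]
    exact congrArg (lift a c ≫ ·) (Over.OverMorphism.ext hfl')
  have hfj : ∀ {X : Over S} (a : X ⟶ P), (a ≫ j) ≫ f = a ≫ φ := fun {X} a => by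
    have h := hf a (toUnit X ≫ one)
    rwa [toUnit_one_comp j one hone, _root_.mul_one, Category.assoc (toUnit X),
      phi_one j V one hone hG φ hV hmul, _root_.mul_one] at h
  -- left multiplication by a point of the cell
  have hmulP : ∀ {X : Over S} (a : X ⟶ P) (g : X ⟶ G), ((a ≫ j) * g) ≫ f = (a ≫ φ) * (g ≫ f) := by
    intro X a₀ g₀
    obtain ⟨Q, q, c₀, d₀, _, hq⟩ := exists_decomp j one hone hG g₀
    rw [← cancel_epi q, MonObj.comp_mul, ← Category.assoc q g₀, hq, hf, ← Category.assoc q (_ * g₀), MonObj.comp_mul,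
      hq, ← Category.assoc, ← Category.assoc]
    generalize q ≫ a₀ = a
    let prd : Q ⊗ G ⟶ G := (fst _ _ ≫ ((c₀ ≫ j) * (d₀ ≫ j))) * (snd Q G)⁻¹
    let O₁ : (Q ⊗ G).left.Opens := (snd Q G).left ⁻¹ᵁ j.left.opensRange ⊓ prd.left ⁻¹ᵁ j.left.opensRange
    let Q₁ := sub (Q ⊗ G) O₁
    let r₁ : Q₁ ⟶ Q := subι _ O₁ ≫ fst Q G
    obtain ⟨e, he⟩ := exists_lift j (subι _ O₁ ≫ snd Q G) (by rintro _ ⟨z, rfl⟩; exact z.2.1)
    obtain ⟨c', hc'⟩ := exists_lift j (subι _ O₁ ≫ prd) (by rintro _ ⟨z, rfl⟩; exact z.2.2)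
    let O₂ : Q₁.left.Opens := (lift (r₁ ≫ a) c').left ⁻¹ᵁ V
    let q₂ := subι Q₁ O₂
    obtain ⟨w, hw, hwφ⟩ := hmul (sub Q₁ O₂) (q₂ ≫ r₁ ≫ a) (q₂ ≫ c') (by
      rw [← comp_lift]; rintro _ ⟨z, rfl⟩; exact z.2)
    haveI : IsOpenImmersion q₂.left := inferInstanceAs (IsOpenImmersion O₂.ι)
    haveI : Epi (q₂ ≫ r₁) := epi_subι_fst Q G O₁ q₂ fun K _ _ b r => by
      let g := ((r ≫ c₀) ≫ j) * ((r ≫ d₀) ≫ j)
      let τ : Over.mk b ⊗ G ⟶ Over.mk b ⊗ G := lift (fst _ _) ((fst _ _ ≫ g) * (snd _ _)⁻¹)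
      have hτ : ∀ h : Over.mk b ⟶ G, lift (𝟙 _) h ≫ τ = lift (𝟙 _) (g * h⁻¹) := fun h => by
        simp only [τ, comp_lift, MonObj.comp_mul, GrpObj.comp_inv, lift_fst, lift_snd, ← Category.assoc,
          Category.id_comp]
      obtain ⟨h, m₁, m₂⟩ := exists_mem_inf hG ((snd (Over.mk b) G).left ⁻¹ᵁ j.left.opensRange)
        (τ.left ⁻¹ᵁ slice j V (r ≫ a)) 1 g
        (by
          show (lift (𝟙 _) _ ≫ snd (Over.mk b) G).left _ ∈ j.left.opensRange
          rw [lift_snd]; exact one_mem_range j one hone b)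
        (by
          show (lift (𝟙 _) _ ≫ τ).left _ ∈ slice j V _
          rw [hτ, mul_inv_cancel]
          exact (mem_slice_iff j V _ 1).2 ⟨toUnit _ ≫ one, toUnit_one_comp j one hone _, hV K b _⟩)
      have m₁' : (lift (𝟙 _) h ≫ snd (Over.mk b) G).left (IsLocalRing.closedPoint K) ∈ j.left.opensRange := m₁
      have m₂' : (lift (𝟙 _) h ≫ τ).left (IsLocalRing.closedPoint K) ∈ slice j V (r ≫ a) := m₂
      rw [lift_snd] at m₁'
      rw [hτ] at m₂'
      obtain ⟨k, hk, hak⟩ := (mem_slice_iff j V _ _).1 m₂'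
      have hprd : lift r h ≫ prd = g * h⁻¹ := by
        simp only [prd, g, MonObj.comp_mul, GrpObj.comp_inv, ← Category.assoc, lift_fst, lift_snd]
      obtain ⟨p₁, hp₁⟩ : ∃ p₁ : Over.mk b ⟶ Q₁, p₁ ≫ subι _ O₁ = lift r h := by
        have hr : Set.range (lift r h).left ⊆ Set.range O₁.ι := by
          rw [Scheme.Opens.range_ι]
          refine range_point _ ⟨?_, ?_⟩
          · show (lift r h ≫ snd Q G).left _ ∈ j.left.opensRange
            rw [lift_snd]; exact m₁'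
          · show (lift r h ≫ prd).left _ ∈ j.left.opensRange
            rw [hprd, ← hk]; exact ⟨_, rfl⟩
        exact ⟨Over.homMk (IsOpenImmersion.lift O₁.ι (lift r h).left hr)
          (by
            show IsOpenImmersion.lift _ _ _ ≫ O₁.ι ≫ (Q ⊗ G).hom = _
            rw [IsOpenImmersion.lift_fac_assoc, Over.w]), Over.OverMorphism.ext (IsOpenImmersion.lift_fac _ _ _)⟩
      have hpr : p₁ ≫ r₁ = r := by rw [← Category.assoc, hp₁, lift_fst]
      have hpc : p₁ ≫ c' = k := (cancel_mono j).1 (by rw [Category.assoc, hc', ← Category.assoc, hp₁, hprd, hk])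
      have hr₂ : Set.range p₁.left ⊆ Set.range O₂.ι := by
        rw [Scheme.Opens.range_ι]
        refine range_point _ ?_
        show (p₁ ≫ lift (r₁ ≫ a) c').left _ ∈ V
        rw [comp_lift, ← Category.assoc, hpr, hpc]
        exact hak
      refine ⟨Over.homMk (IsOpenImmersion.lift O₂.ι p₁.left hr₂) (by
        show IsOpenImmersion.lift _ _ _ ≫ O₂.ι ≫ Q₁.hom = _
        rw [IsOpenImmersion.lift_fac_assoc, Over.w]), ?_⟩
      rw [← Category.assoc, show _ ≫ q₂ = p₁ from Over.OverMorphism.ext (IsOpenImmersion.lift_fac _ _ _)]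
      exact hpr
    rw [← cancel_epi (q₂ ≫ r₁)]
    have h1 : (q₂ ≫ r₁) ≫ ((c₀ ≫ j) * (d₀ ≫ j)) = ((q₂ ≫ c') ≫ j) * ((q₂ ≫ e) ≫ j) := by
      rw [Category.assoc q₂ c', hc', Category.assoc q₂ e, he, ← MonObj.comp_mul, ← MonObj.comp_mul]
      simp only [r₁, Category.assoc, prd]
      rw [inv_mul_cancel_right]
    have h2 : ((q₂ ≫ c') ≫ φ) * ((q₂ ≫ e) ≫ φ) = (((q₂ ≫ r₁) ≫ c₀) ≫ φ) * (((q₂ ≫ r₁) ≫ d₀) ≫ φ) :=
      phi_mul_eq j V one hone hG φ hV hmul _ _ _ _ (by
        rw [← h1, MonObj.comp_mul]; simp only [Category.assoc])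
    rw [← Category.assoc, MonObj.comp_mul (q₂ ≫ r₁) (a ≫ j) ((c₀ ≫ j) * (d₀ ≫ j)), h1, ← _root_.mul_assoc,
      ← Category.assoc, Category.assoc q₂ r₁ a, ← hw, hf, hwφ, _root_.mul_assoc, h2]
    simp only [MonObj.comp_mul, Category.assoc]
  refine ⟨f, RankOne.isMonHom_of_comp f fun X g g' => ?_, ?_⟩
  · obtain ⟨Q, q, a, c, _, hq⟩ := exists_decomp j one hone hG g
    rw [← cancel_epi q, ← Category.assoc, MonObj.comp_mul, MonObj.comp_mul, ← Category.assoc q g, hq,
      ← Category.assoc q g', _root_.mul_assoc, hmulP, hmulP, hf, ← _root_.mul_assoc]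
  · simpa using hfj (𝟙 P)

/-- Two homomorphisms equal on the cell are equal. -/
theorem existsUnique_extension : ∃! f : G ⟶ H, IsMonHom f ∧ j ≫ f = φ := by
  obtain ⟨f, hf, hjf⟩ := exists_extension j V one hone hG φ hV hmul
  refine ⟨f, ⟨hf, hjf⟩, fun f' ⟨hf', hjf'⟩ => ?_⟩
  obtain ⟨Q, q, a, c, _, hq⟩ := exists_decomp j one hone hG (𝟙 G)
  rw [Category.comp_id] at hq
  rw [← cancel_epi q, hq, MonObj.mul_comp, MonObj.mul_comp, Category.assoc, Category.assoc, hjf', Category.assoc,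
    Category.assoc, hjf]

end Groth.Agent.Red23Lib.Extend
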