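import Groth.Agent.DSPtsLib.Basic
import Mathlib.RingTheory.Flat.Basic
import Mathlib.RingTheory.Jacobson.Ring
import Mathlib.RingTheory.TensorProduct.Finite
import Mathlib.AlgebraicGeometry.Pullbacks
import Mathlib.FieldTheory.IsAlgClosed.Basic

/-!
# Isomorphisms of affine group schemes descend along extensions of an algebraically closed field
-/

universe u

open CategoryTheory CategoryTheory.Limits MonoidalCategory CartesianMonoidalCategory MonObj AlgebraicGeometry
open scoped TensorProduct

namespace Groth.Agent.Red23Lib.FieldDescent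

variable {K : Type u} [Field K]

/-- The spectrum of a `K`-algebra, over `K`. -/
noncomputable abbrev base (A : Type u) [CommRing A] [Algebra K A] : Over (Spec (CommRingCat.of K)) :=
  Over.mk (Spec.map (CommRingCat.ofHom (algebraMap K A)))

/-- Functoriality of `base`. -/
noncomputable abbrev baseMap {A A' : Type u} [CommRing A] [Algebra K A] [CommRing A'] [Algebra K A'] (i : A →ₐ[K] A') :
    base (K := K) A' ⟶ base A :=
  Over.homMk (Spec.map (CommRingCat.ofHom i.toRingHom)) (by
    show Spec.map _ ≫ Spec.map _ = Spec.map _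
    rw [← Spec.map_comp, ← CommRingCat.ofHom_comp, AlgHom.toRingHom_eq_coe, AlgHom.comp_algebraMap])

theorem exists_chart (X : Over (Spec (CommRingCat.of K))) [IsAffine X.left] :
    ∃ (B : Type u) (_ : CommRing B) (_ : Algebra K B) (e : Spec (CommRingCat.of B) ⟶ X.left),
      IsIso e ∧ e ≫ X.hom = Spec.map (CommRingCat.ofHom (algebraMap K B)) := by
  let B := Γ(X.left, ⊤)
  let f : CommRingCat.of K ⟶ B := Spec.preimage (X.left.isoSpec.inv ≫ X.hom)
  refine ⟨B, inferInstance, f.hom.toAlgebra, X.left.isoSpec.inv, inferInstance, ?_⟩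
  exact (Spec.map_preimage (X.left.isoSpec.inv ≫ X.hom)).symm

section Chart

variable {X : Over (Spec (CommRingCat.of K))} {B : Type u} [CommRing B] [Algebra K B]
  (e : Spec (CommRingCat.of B) ⟶ X.left)

theorem chart_cond (he : e ≫ X.hom = Spec.map (CommRingCat.ofHom (algebraMap K B)))
    (A : Type u) [CommRing A] [Algebra K A] :
    (Spec.map (CommRingCat.ofHom (Algebra.TensorProduct.includeLeftRingHom : B →+* B ⊗[K] A)) ≫ e) ≫ X.hom =
      Spec.map (CommRingCat.ofHom (Algebra.TensorProduct.includeRight : A →ₐ[K] B ⊗[K] A).toRingHom) ≫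
        (base (K := K) A).hom := by
  rw [Category.assoc, he]
  show Spec.map _ ≫ Spec.map _ = Spec.map _ ≫ Spec.map _
  rw [← Spec.map_comp, ← Spec.map_comp, ← CommRingCat.ofHom_comp, ← CommRingCat.ofHom_comp]
  congr 2
  ext r
  simp

/-- The chart of `X × Spec A`. -/
noncomputable def prodChart (he : e ≫ X.hom = Spec.map (CommRingCat.ofHom (algebraMap K B)))
    (A : Type u) [CommRing A] [Algebra K A] :
    Spec (CommRingCat.of (B ⊗[K] A)) ⟶ (X ⊗ base (K := K) A).left :=
  pullback.lift (Spec.map (CommRingCat.ofHom Algebra.TensorProduct.includeLeftRingHom) ≫ e)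
    (Spec.map (CommRingCat.ofHom (Algebra.TensorProduct.includeRight : A →ₐ[K] B ⊗[K] A).toRingHom)) (chart_cond e he A)

theorem isIso_prodChart [IsIso e] (he : e ≫ X.hom = Spec.map (CommRingCat.ofHom (algebraMap K B)))
    (A : Type u) [CommRing A] [Algebra K A] : IsIso (prodChart e he A) := by
  have h : prodChart e he A = (pullbackSpecIso K B A).inv ≫
      pullback.map (Spec.map (CommRingCat.ofHom (algebraMap K B))) (Spec.map (CommRingCat.ofHom (algebraMap K A)))
        X.hom (base (K := K) A).hom e (𝟙 _) (𝟙 _) (by simp [he]) (by simp) := by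
    apply pullback.hom_ext
    · rw [prodChart, pullback.lift_fst, Category.assoc, pullback.map, pullback.lift_fst,
        pullbackSpecIso_inv_fst'_assoc]
    · rw [prodChart, pullback.lift_snd, Category.assoc, pullback.map, pullback.lift_snd,
        Category.comp_id, pullbackSpecIso_inv_snd]
      rfl
  rw [h]; infer_instance

/-- The map of coordinate rings of `X × Spec A' ⟶ X × Spec A`. -/
noncomputable def tensorMap (B : Type u) [CommRing B] [Algebra K B] {A A' : Type u} [CommRing A] [Algebra K A]
    [CommRing A'] [Algebra K A'] (i : A →ₐ[K] A') : B ⊗[K] A →ₐ[K] B ⊗[K] A' :=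
  Algebra.TensorProduct.map (AlgHom.id K B) i

theorem tensorMap_injective (B : Type u) [CommRing B] [Algebra K B] {A A' : Type u} [CommRing A] [Algebra K A]
    [CommRing A'] [Algebra K A'] (i : A →ₐ[K] A') (hi : Function.Injective i) :
    Function.Injective (tensorMap B i) :=
  Module.Flat.lTensor_preserves_injective_linearMap (M := B) i.toLinearMap hi

theorem prodChart_whisker (he : e ≫ X.hom = Spec.map (CommRingCat.ofHom (algebraMap K B)))
    {A A' : Type u} [CommRing A] [Algebra K A] [CommRing A'] [Algebra K A'] (i : A →ₐ[K] A') :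
    Spec.map (CommRingCat.ofHom (tensorMap B i).toRingHom) ≫ prodChart e he A =
      prodChart e he A' ≫ (X ◁ baseMap i).left := by
  apply pullback.hom_ext
  · rw [Category.assoc, Category.assoc, prodChart, pullback.lift_fst, Over.whiskerLeft_left_fst,
      prodChart, pullback.lift_fst, ← Category.assoc, ← Spec.map_comp, ← CommRingCat.ofHom_comp]
    congr 3
    ext b
    simp [tensorMap]
  · rw [Category.assoc, Category.assoc, prodChart, pullback.lift_snd, Over.whiskerLeft_left_snd,
      ← Category.assoc, prodChart, pullback.lift_snd]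
    show Spec.map _ ≫ Spec.map _ = Spec.map _ ≫ Spec.map _
    rw [← Spec.map_comp, ← Spec.map_comp, ← CommRingCat.ofHom_comp, ← CommRingCat.ofHom_comp]
    congr 2

end Chart

theorem whisker_cancel {X Y : Over (Spec (CommRingCat.of K))} [IsAffine X.left] [IsAffine Y.left]
    {A A' : Type u} [CommRing A] [Algebra K A] [CommRing A'] [Algebra K A'] (i : A →ₐ[K] A')
    (hi : Function.Injective i) {f f' : X ⊗ base (K := K) A ⟶ Y}
    (h : (X ◁ baseMap i) ≫ f = (X ◁ baseMap i) ≫ f') : f = f' := by
  obtain ⟨B, _, _, e, _, he⟩ := exists_chart X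
  have := isIso_prodChart e he A
  refine Over.OverMorphism.ext ?_
  rw [← cancel_epi (prodChart e he A), ← cancel_mono Y.left.isoSpec.hom]
  refine (Spec.homEquiv).injective ?_
  apply CommRingCat.hom_ext
  ext c
  apply tensorMap_injective B i hi
  have h' : Spec.map (CommRingCat.ofHom (tensorMap B i).toRingHom) ≫ ((prodChart e he A ≫ f.left) ≫ Y.left.isoSpec.hom) =
      Spec.map (CommRingCat.ofHom (tensorMap B i).toRingHom) ≫ ((prodChart e he A ≫ f'.left) ≫ Y.left.isoSpec.hom) := by
    simp only [← Category.assoc, prodChart_whisker]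
    simp only [Category.assoc]
    rw [← Over.comp_left_assoc, h, Over.comp_left_assoc]
  have h'' := congrArg Spec.preimage h'
  rw [Spec.preimage_comp, Spec.preimage_comp, Spec.preimage_map] at h''
  exact congrArg (fun φ => φ.hom c) h''

theorem range_mono {B L : Type u} [CommRing B] [Algebra K B] [CommRing L] [Algebra K L] {s s' : Finset L}
    (hss : s ⊆ s') {x : B ⊗[K] L} (hx : x ∈ (tensorMap B (Algebra.adjoin K (s : Set L)).val).range) :
    x ∈ (tensorMap B (Algebra.adjoin K (s' : Set L)).val).range := by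
  obtain ⟨y, rfl⟩ := hx
  refine ⟨tensorMap B (Subalgebra.inclusion (Algebra.adjoin_mono (Finset.coe_subset.mpr hss))) y, ?_⟩
  show tensorMap B _ (tensorMap B _ y) = tensorMap B _ y
  rw [← AlgHom.comp_apply, tensorMap, tensorMap, ← Algebra.TensorProduct.map_comp]
  rfl

theorem exists_mem_range {B L : Type u} [CommRing B] [Algebra K B] [CommRing L] [Algebra K L] (x : B ⊗[K] L) :
    ∃ s : Finset L, x ∈ (tensorMap B (Algebra.adjoin K (s : Set L)).val).range := by
  classical
  induction x using TensorProduct.induction_on with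
  | zero => exact ⟨∅, zero_mem _⟩
  | tmul b l =>
    refine ⟨{l}, b ⊗ₜ ⟨l, Algebra.subset_adjoin (by simp)⟩, ?_⟩
    simp [tensorMap]
  | add x y hx hy =>
    obtain ⟨s, hs⟩ := hx
    obtain ⟨t, ht⟩ := hy
    exact ⟨s ∪ t, add_mem (range_mono Finset.subset_union_left hs) (range_mono Finset.subset_union_right ht)⟩

/-- A morphism defined over `L` is defined over a finitely generated subalgebra. -/
theorem exists_descend {L : Type u} [CommRing L] [Algebra K L] {X Y : Over (Spec (CommRingCat.of K))}
    [IsAffine X.left] [IsAffine Y.left] [LocallyOfFiniteType Y.hom] (F : X ⊗ base (K := K) L ⟶ Y) :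
    ∃ s : Finset L, ∀ s' : Finset L, s ⊆ s' →
      ∃ F' : X ⊗ base (K := K) (Algebra.adjoin K (s' : Set L)) ⟶ Y,
        (X ◁ baseMap (Algebra.adjoin K (s' : Set L)).val) ≫ F' = F := by
  classical
  obtain ⟨B, _, _, e, _, he⟩ := exists_chart X
  obtain ⟨C, _, _, d, _, hd⟩ := exists_chart Y
  have := isIso_prodChart e he L
  have hft : RingHom.FiniteType (algebraMap K C) := by
    have : LocallyOfFiniteType (d ≫ Y.hom) := inferInstance
    rw [hd, HasRingHomProperty.Spec_iff (P := @LocallyOfFiniteType)] at this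
    exact this
  have : Algebra.FiniteType K C := RingHom.finiteType_algebraMap.mp hft
  let ψ : CommRingCat.of C ⟶ CommRingCat.of (B ⊗[K] L) := Spec.preimage (prodChart e he L ≫ F.left ≫ inv d)
  have hψ : Spec.map ψ = prodChart e he L ≫ F.left ≫ inv d := Spec.map_preimage _
  have hψK : ∀ r : K, ψ.hom (algebraMap K C r) = algebraMap K (B ⊗[K] L) r := by
    have h2 : CommRingCat.ofHom (algebraMap K C) ≫ ψ = CommRingCat.ofHom (algebraMap K (B ⊗[K] L)) := by
      apply Spec.map_injective
      rw [Spec.map_comp, hψ, ← hd]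
      simp only [Category.assoc, IsIso.inv_hom_id_assoc]
      rw [Over.w F]
      show prodChart e he L ≫ pullback.fst _ _ ≫ X.hom = _
      rw [← Category.assoc, prodChart, pullback.lift_fst, Category.assoc, he, ← Spec.map_comp,
        ← CommRingCat.ofHom_comp]
    exact fun r => congrArg (fun φ => φ.hom r) h2
  let ψa : C →ₐ[K] B ⊗[K] L := { ψ.hom with commutes' := hψK }
  obtain ⟨t, ht⟩ := Algebra.FiniteType.out (R := K) (A := C)
  choose g hg using fun c : C => exists_mem_range (K := K) (ψa c)
  refine ⟨t.biUnion g, fun s hs => ?_⟩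
  set A := Algebra.adjoin K (s : Set L)
  let inc := tensorMap B A.val
  have hι : Function.Injective inc := tensorMap_injective B A.val Subtype.val_injective
  have hrange : ∀ c, ψa c ∈ inc.range := by
    have : (⊤ : Subalgebra K C) ≤ inc.range.comap ψa := by
      rw [← ht]
      refine Algebra.adjoin_le fun c hc => ?_
      exact range_mono ((Finset.subset_biUnion_of_mem g hc).trans hs) (hg c)
    exact fun c => this (by trivial)
  let ψ₀ : C →ₐ[K] B ⊗[K] A :=
    (AlgEquiv.ofInjective inc hι).symm.toAlgHom.comp (ψa.codRestrict inc.range hrange)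
  have hψ₀ : inc.comp ψ₀ = ψa := by
    ext c
    exact congrArg Subtype.val ((AlgEquiv.ofInjective inc hι).apply_symm_apply ⟨ψa c, hrange c⟩)
  have := isIso_prodChart e he A
  let m : (X ⊗ base (K := K) A).left ⟶ Y.left :=
    inv (prodChart e he A) ≫ Spec.map (CommRingCat.ofHom ψ₀.toRingHom) ≫ d
  have hm : m ≫ Y.hom = (X ⊗ base (K := K) A).hom := by
    rw [← cancel_epi (prodChart e he A)]
    simp only [m, IsIso.hom_inv_id_assoc, Category.assoc, hd, ← Spec.map_comp, ← CommRingCat.ofHom_comp]
    show _ = prodChart e he A ≫ pullback.fst _ _ ≫ X.hom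
    rw [← Category.assoc, prodChart, pullback.lift_fst, Category.assoc, he, ← Spec.map_comp,
      ← CommRingCat.ofHom_comp]
    congr 2
    ext r
    exact ψ₀.commutes r
  refine ⟨Over.homMk m hm, Over.OverMorphism.ext ?_⟩
  rw [← cancel_epi (prodChart e he L), Over.comp_left, ← Category.assoc, ← prodChart_whisker]
  simp only [Over.homMk_left, m, Category.assoc, IsIso.hom_inv_id_assoc]
  rw [← Category.assoc, ← Spec.map_comp, ← CommRingCat.ofHom_comp]
  have e1 : (CommRingCat.ofHom ((tensorMap B A.val).toRingHom.comp ψ₀.toRingHom)) = ψ :=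
    CommRingCat.hom_ext (congrArg AlgHom.toRingHom hψ₀)
  rw [e1, hψ]
  simp

theorem exists_rationalPoint [IsAlgClosed K] (A : Type u) [CommRing A] [Nontrivial A] [Algebra K A]
    [Algebra.FiniteType K A] : Nonempty (A →ₐ[K] K) := by
  obtain ⟨m, hm⟩ := Ideal.exists_maximal A
  let := Ideal.Quotient.field m
  have : Algebra.FiniteType K (A ⧸ m) := Algebra.FiniteType.of_surjective (Ideal.Quotient.mkₐ K m)
    Ideal.Quotient.mk_surjective
  have : Module.Finite K (A ⧸ m) := finite_of_finite_type_of_isJacobsonRing K (A ⧸ m)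
  have : Algebra.IsIntegral K (A ⧸ m) := inferInstance
  have hb := IsAlgClosed.algebraMap_bijective_of_isIntegral (k := K) (K := A ⧸ m)
  exact ⟨((AlgEquiv.ofBijective (Algebra.ofId K (A ⧸ m)) hb).symm.toAlgHom).comp (Ideal.Quotient.mkₐ K m)⟩

end Groth.Agent.Red23Lib.FieldDescent
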