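import Groth.Agent.Red23Lib.FieldDescent
import Groth.Agent.Red23Lib.BCComp

/-!
# Affine group schemes of finite type over an algebraically closed field which become isomorphic over
a larger field are isomorphic
-/

universe u

open CategoryTheory CategoryTheory.Limits MonoidalCategory CartesianMonoidalCategory MonObj AlgebraicGeometry

namespace Groth.Agent.Red23Lib.FieldDescent

open DSPtsLib

variable {S U : Scheme.{u}} (g : U ⟶ S)

/-- `H ×_S U ⟶ H'` attached to a morphism of base changes. -/
noncomputable def family {H H' : Over S} (ψ : Red.bc g H ⟶ Red.bc g H') : H ⊗ Over.mk g ⟶ H' :=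
  Over.homMk (ψ.left ≫ pullback.fst _ _) (by
    rw [Category.assoc, pullback.condition, ← Category.assoc]
    show (ψ.left ≫ (Red.bc g H').hom) ≫ g = _
    rw [Over.w ψ]
    exact pullback.condition.symm)

/-- The base coordinate of a scheme over `U`. -/
noncomputable def coord (Y : Over U) : (Over.map g).obj Y ⟶ Over.mk g := Over.homMk Y.hom rfl

theorem lift_family {H H' : Over S} (ψ : Red.bc g H ⟶ Red.bc g H') {Y : Over U} (a : Y ⟶ Red.bc g H) :
    lift (theta g a) (coord g Y) ≫ family g ψ = theta g (a ≫ ψ) := by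
  refine Over.OverMorphism.ext ?_
  rw [Over.comp_left, theta_left, Over.comp_left, Category.assoc]
  show (lift (theta g a) (coord g Y)).left ≫ ψ.left ≫ pullback.fst _ _ = _
  congr 1
  rw [Over.lift_left]
  apply pullback.hom_ext
  · rw [pullback.lift_fst]; rfl
  · rw [pullback.lift_snd]; exact (Over.w a).symm

theorem family_hom {H H' : Over S} [GrpObj H] [GrpObj H'] (ψ : Red.bc g H ⟶ Red.bc g H') [IsMonHom ψ]
    {T : Over S} (x y : T ⟶ H) (w : T ⟶ Over.mk g) :
    lift (x * y) w ≫ family g ψ = (lift x w ≫ family g ψ) * (lift y w ≫ family g ψ) := by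
  let Y : Over U := Over.mk w.left
  let e : (Over.map g).obj Y ≅ T := Over.isoMk (Iso.refl _) (by
    show 𝟙 _ ≫ T.hom = w.left ≫ g
    rw [Category.id_comp]
    exact (Over.w w).symm)
  have hw : e.hom ≫ w = coord g Y := by
    refine Over.OverMorphism.ext ?_
    show 𝟙 _ ≫ w.left = w.left
    rw [Category.id_comp]
  obtain ⟨a, ha⟩ := (theta_bijective g).surjective (e.hom ≫ x)
  obtain ⟨b, hb⟩ := (theta_bijective g).surjective (e.hom ≫ y)
  rw [← cancel_epi e.hom, MonObj.comp_mul, ← Category.assoc, comp_lift, hw, MonObj.comp_mul, ← ha, ← hb,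
    ← theta_mul, lift_family, MonObj.mul_comp, theta_mul, ← lift_family, ← lift_family, ← Category.assoc,
    comp_lift, hw, ← ha, ← Category.assoc, comp_lift, hw, ← hb]

theorem family_comp {H H' H'' : Over S} (ψ : Red.bc g H ⟶ Red.bc g H') (φ : Red.bc g H' ⟶ Red.bc g H'')
    {T : Over S} (x : T ⟶ H) (w : T ⟶ Over.mk g) :
    lift (lift x w ≫ family g ψ) w ≫ family g φ = lift x w ≫ family g (ψ ≫ φ) := by
  let Y : Over U := Over.mk w.left
  let e : (Over.map g).obj Y ≅ T := Over.isoMk (Iso.refl _) (by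
    show 𝟙 _ ≫ T.hom = w.left ≫ g
    rw [Category.id_comp]
    exact (Over.w w).symm)
  have hw : e.hom ≫ w = coord g Y := by
    refine Over.OverMorphism.ext ?_
    show 𝟙 _ ≫ w.left = w.left
    rw [Category.id_comp]
  obtain ⟨a, ha⟩ := (theta_bijective g).surjective (e.hom ≫ x)
  rw [← cancel_epi e.hom, ← Category.assoc, comp_lift, hw, ← Category.assoc, comp_lift, hw, ← ha,
    lift_family, lift_family, ← Category.assoc, comp_lift, hw, ← ha, lift_family, Category.assoc]

theorem family_id {H : Over S} {T : Over S} (x : T ⟶ H) (w : T ⟶ Over.mk g) :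
    lift x w ≫ family g (𝟙 (Red.bc g H)) = x := by
  refine Over.OverMorphism.ext ?_
  show (lift x w).left ≫ 𝟙 _ ≫ pullback.fst _ _ = x.left
  rw [Category.id_comp, Over.lift_left, pullback.lift_fst]

variable {K : Type u} [Field K]

theorem isAffine_tensor (X Y : Over (Spec (CommRingCat.of K))) [IsAffine X.left] [IsAffine Y.left] :
    IsAffine (X ⊗ Y).left :=
  inferInstanceAs (IsAffine (pullback X.hom Y.hom))

/-- Two affine group schemes of finite type over an algebraically closed field which become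
isomorphic over an extension field are isomorphic. -/
theorem nonempty_iso_of_field_extension [IsAlgClosed K] (L : Type u) [Field L] [Algebra K L]
    (G G' : Over (Spec (CommRingCat.of K))) [GrpObj G] [GrpObj G'] [IsAffine G.left] [IsAffine G'.left]
    [LocallyOfFiniteType G.hom] [LocallyOfFiniteType G'.hom]
    (h : Nonempty (Grp.mk (Red.bc (Spec.map (CommRingCat.ofHom (algebraMap K L))) G) ≅
      Grp.mk (Red.bc (Spec.map (CommRingCat.ofHom (algebraMap K L))) G'))) :
    Nonempty (Grp.mk G ≅ Grp.mk G') := by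
  classical
  obtain ⟨ψ⟩ := h
  let g := Spec.map (CommRingCat.ofHom (algebraMap K L))
  let F : G ⊗ base (K := K) L ⟶ G' := family g ψ.hom.hom.hom
  let F' : G' ⊗ base (K := K) L ⟶ G := family g ψ.inv.hom.hom
  have hF : ∀ {T : Over (Spec (CommRingCat.of K))} (x y : T ⟶ G) (w : T ⟶ base (K := K) L),
      lift (x * y) w ≫ F = (lift x w ≫ F) * (lift y w ≫ F) := fun x y w => family_hom g _ x y w
  have hFF' : ∀ {T : Over (Spec (CommRingCat.of K))} (x : T ⟶ G) (w : T ⟶ base (K := K) L),
      lift (lift x w ≫ F) w ≫ F' = x := by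
    intro T x w
    rw [family_comp, ← Grp.comp_hom_hom, Iso.hom_inv_id]
    exact family_id g x w
  have hF'F : ∀ {T : Over (Spec (CommRingCat.of K))} (x : T ⟶ G') (w : T ⟶ base (K := K) L),
      lift (lift x w ≫ F') w ≫ F = x := by
    intro T x w
    rw [family_comp, ← Grp.comp_hom_hom, Iso.inv_hom_id]
    exact family_id g x w
  obtain ⟨s, hs⟩ := exists_descend F
  obtain ⟨t, ht⟩ := exists_descend F'
  let A := Algebra.adjoin K ((s ∪ t : Finset L) : Set L)
  obtain ⟨E, hE⟩ := hs _ Finset.subset_union_left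
  obtain ⟨E', hE'⟩ := ht _ Finset.subset_union_right
  let v : base (K := K) L ⟶ base (K := K) A := baseMap A.val
  have hv : Function.Injective (A.val) := Subtype.val_injective
  have hfst : ∀ (X : Over (Spec (CommRingCat.of K))), (X ◁ v) ≫ snd X (base (K := K) A) = snd X (base (K := K) L) ≫ v :=
    fun X => whiskerLeft_snd _ _
  have step : ∀ {X : Over (Spec (CommRingCat.of K))} (x : X ⊗ base (K := K) L ⟶ G),
      lift x (snd _ _ ≫ v) ≫ E = lift x (snd _ _) ≫ F := fun x => by
    rw [← hE, ← Category.assoc, lift_whiskerLeft]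
  have step' : ∀ {X : Over (Spec (CommRingCat.of K))} (x : X ⊗ base (K := K) L ⟶ G'),
      lift x (snd _ _ ≫ v) ≫ E' = lift x (snd _ _) ≫ F' := fun x => by
    rw [← hE', ← Category.assoc, lift_whiskerLeft]
  -- the identities over the subalgebra
  have hEmul : lift (fst (G ⊗ G) (base (K := K) A) ≫ fst G G * (fst (G ⊗ G) _ ≫ snd G G)) (snd _ _) ≫ E =
      (lift (fst _ _ ≫ fst G G) (snd _ _) ≫ E) * (lift (fst _ _ ≫ snd G G) (snd _ _) ≫ E) := by
    have := isAffine_tensor G G
    refine whisker_cancel A.val hv ?_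
    simp only [← Category.assoc, MonObj.comp_mul, comp_lift, whiskerLeft_fst, whiskerLeft_snd]
    rw [step, step, step]
    exact hF _ _ _
  have hEE' : lift (lift (fst G (base (K := K) A)) (snd _ _) ≫ E) (snd _ _) ≫ E' = fst G _ := by
    refine whisker_cancel A.val hv ?_
    simp only [← Category.assoc, comp_lift, whiskerLeft_fst, whiskerLeft_snd]
    rw [step, step']
    exact hFF' _ _
  have hE'E : lift (lift (fst G' (base (K := K) A)) (snd _ _) ≫ E') (snd _ _) ≫ E = fst G' _ := by
    refine whisker_cancel A.val hv ?_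
    simp only [← Category.assoc, comp_lift, whiskerLeft_fst, whiskerLeft_snd]
    rw [step', step]
    exact hF'F _ _
  -- specialise at a rational point
  have : Algebra.FiniteType K A := (Subalgebra.fg_iff_finiteType _).mp (Subalgebra.fg_adjoin_finset _)
  obtain ⟨a⟩ := exists_rationalPoint (K := K) A
  let p : ∀ X : Over (Spec (CommRingCat.of K)), X ⟶ base (K := K) A := fun X =>
    toUnit X ≫ Over.homMk (Spec.map (CommRingCat.ofHom a.toRingHom)) (by
      show Spec.map _ ≫ Spec.map _ = 𝟙 (Spec (CommRingCat.of K))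
      rw [← Spec.map_comp, ← CommRingCat.ofHom_comp, AlgHom.toRingHom_eq_coe, AlgHom.comp_algebraMap]
      exact Spec.map_id _)
  have hp : ∀ {X X' : Over (Spec (CommRingCat.of K))} (h : X ⟶ X'), h ≫ p X' = p X := fun h => by
    simp only [p, ← Category.assoc, toUnit_unique (h ≫ toUnit _) (toUnit _)]
  let f : G ⟶ G' := lift (𝟙 G) (p G) ≫ E
  let f' : G' ⟶ G := lift (𝟙 G') (p G') ≫ E'
  have hf : IsMonHom f := by
    refine isMonHom_of_mul f fun X x y => ?_
    have h1 := congrArg (lift (lift x y) (p X) ≫ ·) hEmul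
    simp only [← Category.assoc, MonObj.comp_mul, comp_lift, lift_fst, lift_snd] at h1
    simp only [f, ← Category.assoc, comp_lift, Category.comp_id, hp]
    exact h1
  have h1 : f ≫ f' = 𝟙 G := by
    have h1 := congrArg (lift (𝟙 G) (p G) ≫ ·) hEE'
    simp only [← Category.assoc, comp_lift, lift_fst, lift_snd] at h1
    rw [show f' = lift (𝟙 G') (p G') ≫ E' from rfl, ← Category.assoc, comp_lift, Category.comp_id, hp]
    exact h1
  have h2 : f' ≫ f = 𝟙 G' := by
    have h1 := congrArg (lift (𝟙 G') (p G') ≫ ·) hE'E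
    simp only [← Category.assoc, comp_lift, lift_fst, lift_snd] at h1
    rw [show f = lift (𝟙 G) (p G) ≫ E from rfl, ← Category.assoc, comp_lift, Category.comp_id, hp]
    exact h1
  exact ⟨Grp.mkIso ⟨f, f', h1, h2⟩ hf.one_hom hf.mul_hom⟩

end Groth.Agent.Red23Lib.FieldDescent
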