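import Groth.Agent.Red23Lib.Extend
import Groth.Agent.GrpSchLib.RankOneScale
import Groth.Agent.Sga3xB.MultBasic

/-!
# Homomorphisms out of a rank-one group given on the cell
-/

set_option autoImplicit false
set_option linter.style.haveILetI false

universe u

open CategoryTheory CategoryTheory.Limits AlgebraicGeometry MonoidalCategory CartesianMonoidalCategory
open Groth.Agent.GrpSchLib Groth.Agent.GrpSchLib.RankOne
open scoped MonObj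

noncomputable section

namespace Groth.Agent.Red23Lib

variable {S : Scheme.{u}}

set_option backward.isDefEq.respectTransparency.types false in
theorem isAffineHom_tensor (X Y : Over S) [IsAffineHom X.hom] [IsAffineHom Y.hom] : IsAffineHom (X ⊗ Y).hom := by
  haveI : IsAffineHom (pullback.fst X.hom Y.hom) :=
    MorphismProperty.pullback_fst (P := @IsAffineHom) X.hom Y.hom inferInstance
  exact inferInstanceAs (IsAffineHom (pullback.fst _ _ ≫ X.hom))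

set_option backward.isDefEq.respectTransparency.types false in
theorem isAffineHom_Ga (S : Scheme.{u}) : IsAffineHom (Red.Ga S).hom :=
  haveI : IsAffineHom Red.GaZ.{u}.hom := inferInstanceAs (IsAffineHom (Spec.map _))
  MorphismProperty.pullback_snd (P := @IsAffineHom) Red.GaZ.hom _ inferInstance

theorem isUnit_of_range_subset {X Y : Scheme.{u}} (g : X ⟶ Y) (f : Γ(Y, ⊤))
    (h : Set.range g ⊆ (Y.basicOpen f : Set Y)) : IsUnit (g.appTop f) := by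
  refine RingedSpace.isUnit_of_isUnit_germ X.toRingedSpace ⊤ _ fun x _ => ?_
  have hx : x ∈ X.basicOpen (g.appTop f) := by
    rw [← Scheme.preimage_basicOpen_top]
    exact h ⟨x, rfl⟩
  exact (Scheme.mem_basicOpen (U := ⊤) X (g.appTop f) x trivial).1 hx

variable {G T H : Over S} [GrpObj G] [GrpObj T] [GrpObj H] {i : T ⟶ G} [IsMonHom i]
  {α : T ⟶ Red.Gm S} [IsMonHom α] {pp pm : Red.Ga S ⟶ G} [IsMonHom pp] [IsMonHom pm]
  {av : Red.Gm S ⟶ T} [IsMonHom av]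

set_option maxHeartbeats 1000000 in
/-- A compatible triple of homomorphisms on the cell extends uniquely to the group. -/
theorem existsUnique_hom (hG : Red.IsReductive G) (hT : Red.IsTorus T)
    (hpp : ∀ (X : Over S) (t : X ⟶ T) (x : X ⟶ Red.Ga S), ∃ x' : X ⟶ Red.Ga S,
      x' ≫ pp = (t ≫ i) * (x ≫ pp) * (t ≫ i)⁻¹ ∧ Red.gaFn x' = Red.gmFn (t ≫ α) * Red.gaFn x)
    (hpm : ∀ (X : Over S) (t : X ⟶ T) (y : X ⟶ Red.Ga S), ∃ y' : X ⟶ Red.Ga S,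
      y' ≫ pm = (t ≫ i) * (y ≫ pm) * (t ≫ i)⁻¹ ∧ Red.gaFn y' * Red.gmFn (t ≫ α) = Red.gaFn y)
    (hΩ : IsOpenImmersion (cellMap i pp pm).left)
    (h2 : av ≫ α = (𝟙 (Red.Gm S)) ^ 2)
    (hF : ∀ (X : Over S) (x y : X ⟶ Red.Ga S), IsUnit (1 + Red.gaFn x * Red.gaFn y) →
      ∃ (x' y' : X ⟶ Red.Ga S) (z : X ⟶ Red.Gm S), Red.gmFn z = 1 + Red.gaFn x * Red.gaFn y ∧
        Red.gaFn x' * Red.gmFn z = Red.gaFn x ∧ Red.gaFn y' * Red.gmFn z = Red.gaFn y ∧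
        (x ≫ pp) * (y ≫ pm) = (y' ≫ pm) * (z ≫ av ≫ i) * (x' ≫ pp))
    (fT : T ⟶ H) [IsMonHom fT] (fα fm : Red.Ga S ⟶ H) [IsMonHom fα] [IsMonHom fm]
    (hpα : ∀ (X : Over S) (t : X ⟶ T) (x : X ⟶ Red.Ga S), ∃ x' : X ⟶ Red.Ga S,
      x' ≫ fα = (t ≫ fT) * (x ≫ fα) * (t ≫ fT)⁻¹ ∧ Red.gaFn x' = Red.gmFn (t ≫ α) * Red.gaFn x)
    (hmα : ∀ (X : Over S) (t : X ⟶ T) (y : X ⟶ Red.Ga S), ∃ y' : X ⟶ Red.Ga S,
      y' ≫ fm = (t ≫ fT) * (y ≫ fm) * (t ≫ fT)⁻¹ ∧ Red.gaFn y' * Red.gmFn (t ≫ α) = Red.gaFn y)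
    (hFH : ∀ (X : Over S) (x y : X ⟶ Red.Ga S), IsUnit (1 + Red.gaFn x * Red.gaFn y) →
      ∃ (x' y' : X ⟶ Red.Ga S) (z : X ⟶ Red.Gm S), Red.gmFn z = 1 + Red.gaFn x * Red.gaFn y ∧
        Red.gaFn x' * Red.gmFn z = Red.gaFn x ∧ Red.gaFn y' * Red.gmFn z = Red.gaFn y ∧
        (x ≫ fα) * (y ≫ fm) = (y' ≫ fm) * (z ≫ av ≫ fT) * (x' ≫ fα)) :
    ∃! f : G ⟶ H, IsMonHom f ∧ i ≫ f = fT ∧ pp ≫ f = fα ∧ pm ≫ f = fm := by
  haveI := isAffineHom_Ga S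
  haveI : IsAffineHom T.hom := Sga3xB.isAffineHom_of_isMultTypeFT (isMultTypeFT_of_isTorus hT)
  let P : Over S := (Red.Ga S ⊗ T) ⊗ Red.Ga S
  haveI : IsAffineHom (Red.Ga S ⊗ T).hom := isAffineHom_tensor _ _
  haveI : IsAffineHom P.hom := isAffineHom_tensor _ _
  haveI : IsOpenImmersion (cellMap i pp pm).left := hΩ
  let one : 𝟙_ (Over S) ⟶ P := lift (lift 1 1) 1
  have hone : one ≫ cellMap i pp pm = 1 := by
    rw [cell_comp, MonObj.one_comp, MonObj.one_comp, MonObj.one_comp, _root_.one_mul, _root_.one_mul]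
  let φ : P ⟶ H := cellMap fT fα fm
  have hjφ : ∀ {X : Over S} (a : X ⟶ P), ∃ (y : X ⟶ Red.Ga S) (t : X ⟶ T) (x : X ⟶ Red.Ga S),
      a = lift (lift y t) x ∧ a ≫ cellMap i pp pm = (y ≫ pm) * (t ≫ i) * (x ≫ pp) ∧
        a ≫ φ = (y ≫ fm) * (t ≫ fT) * (x ≫ fα) := fun a => by
    refine ⟨(a ≫ fst _ _) ≫ fst _ _, (a ≫ fst _ _) ≫ snd _ _, a ≫ snd _ _, ?_, ?_, ?_⟩
    · rw [lift_comp_fst_snd, lift_comp_fst_snd]
    · rw [← cell_comp, lift_comp_fst_snd, lift_comp_fst_snd]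
    · rw [← cell_comp fT fα fm, lift_comp_fst_snd, lift_comp_fst_snd]
  let F : Γ((P ⊗ P).left, ⊤) :=
    1 + Red.gaFn (fst P P ≫ snd (Red.Ga S ⊗ T) (Red.Ga S)) *
      Red.gaFn (snd P P ≫ fst (Red.Ga S ⊗ T) (Red.Ga S) ≫ fst (Red.Ga S) T)
  have hFv : ∀ {X : Over S} (a c : X ⟶ P), (lift a c).left.appTop F =
      1 + Red.gaFn (a ≫ snd _ _) * Red.gaFn ((c ≫ fst _ _) ≫ fst _ _) := fun a c => by
    simp only [F, map_add, map_one, map_mul, ← GaPts.gaFn_comp, ← Category.assoc, lift_fst, lift_snd]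
  have hV : ∀ (K : Type u) [Field K] [IsAlgClosed K] (b : Spec (CommRingCat.of K) ⟶ S) (a : Over.mk b ⟶ P),
      (lift a (toUnit _ ≫ one)).left (IsLocalRing.closedPoint K) ∈ (P ⊗ P).left.basicOpen F := fun K _ _ b a => by
    show _ ∈ (lift a (toUnit _ ≫ one)).left ⁻¹ᵁ (P ⊗ P).left.basicOpen F
    rw [Scheme.preimage_basicOpen_top, hFv]
    rw [show ((toUnit _ ≫ one) ≫ fst _ _) ≫ fst (Red.Ga S) T = 1 by
      simp only [one, Category.assoc, lift_fst_assoc, lift_fst, MonObj.comp_one], GaPts.gaFn_one, mul_zero, add_zero,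
      Scheme.basicOpen_of_isUnit _ isUnit_one]
    trivial
  have hmul : ∀ (X : Over S) (a c : X ⟶ P),
      Set.range (lift a c).left ⊆ ((P ⊗ P).left.basicOpen F : Set (P ⊗ P).left) →
      ∃ e : X ⟶ P, e ≫ cellMap i pp pm = (a ≫ cellMap i pp pm) * (c ≫ cellMap i pp pm) ∧
        e ≫ φ = (a ≫ φ) * (c ≫ φ) := fun X a c hac => by
    obtain ⟨y, t, x, rfl, hj, hp⟩ := hjφ a
    obtain ⟨y', t', x', rfl, hj', hp'⟩ := hjφ c
    have hu := isUnit_of_range_subset _ _ hac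
    rw [hFv] at hu
    simp only [lift_fst, lift_snd] at hu
    let Φ := sys i α pp pm hpp hpm av h2 hF X
    let Ψ := sys fT α fα fm hpα hmα av h2 hFH X
    have e1 := Φ.bigCell_mul (Red.gaFn x) (Red.gaFn y) (Red.gaFn x') (Red.gaFn y') t t' hu.unit rfl
    have e2 := Ψ.bigCell_mul (Red.gaFn x) (Red.gaFn y) (Red.gaFn x') (Red.gaFn y') t t' hu.unit rfl
    simp only [Φ, Ψ, sys, MonoidHom.mk'_apply, MonoidHom.coe_mk, OneHom.coe_mk, ← ga_eq_ptOfFn] at e1 e2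
    refine ⟨lift (lift (GaPts.ptOfFn ?_) ?_) (GaPts.ptOfFn ?_), ?_, ?_⟩
    rotate_left 3
    · rw [hj, hj', e1, cell_comp]
    · rw [hp, hp', e2, cell_comp]
  obtain ⟨f, ⟨hf, hjf⟩, huniq⟩ := Extend.existsUnique_extension (cellMap i pp pm) ((P ⊗ P).left.basicOpen F) one
    hone hG φ hV hmul
  have hcell : ∀ g : G ⟶ H, IsMonHom g → i ≫ g = fT → pp ≫ g = fα → pm ≫ g = fm →
      cellMap i pp pm ≫ g = φ := fun g hg h1 h3 h4 => by
    obtain ⟨y, t, x, ha, hj, hp⟩ := hjφ (𝟙 P)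
    rw [Category.id_comp] at hj hp
    rw [hj, MonObj.mul_comp, MonObj.mul_comp, Category.assoc, Category.assoc, Category.assoc, h1, h3, h4, ← hp]
  haveI := hf
  have e : ∀ {X : Over S} (y : X ⟶ Red.Ga S) (t : X ⟶ T) (x : X ⟶ Red.Ga S),
      ((y ≫ pm) * (t ≫ i) * (x ≫ pp)) ≫ f = (y ≫ fm) * (t ≫ fT) * (x ≫ fα) := fun y t x => by
    rw [← cell_comp, Category.assoc, hjf, cell_comp]
  refine ⟨f, ⟨hf, ?_, ?_, ?_⟩, fun g ⟨hg, h1, h3, h4⟩ => huniq g ⟨hg, hcell g hg h1 h3 h4⟩⟩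
  · simpa [MonObj.one_comp] using e (1 : T ⟶ Red.Ga S) (𝟙 T) 1
  · simpa [MonObj.one_comp] using e (1 : Red.Ga S ⟶ Red.Ga S) (1 : Red.Ga S ⟶ T) (𝟙 _)
  · simpa [MonObj.one_comp] using e (𝟙 _) (1 : Red.Ga S ⟶ T) (1 : Red.Ga S ⟶ Red.Ga S)

end Groth.Agent.Red23Lib
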