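import Groth.Agent.GrpSchLib.RankOneBraid
import Mathlib.RingTheory.AdjoinRoot
import Mathlib.RingTheory.Flat.FaithfullyFlat.Basic
import Mathlib.RingTheory.Polynomial.Basic

/-!
# The commutation rule from the relations of a rank-one group
-/

set_option autoImplicit false
set_option linter.style.haveILetI false

universe u

noncomputable section

namespace Groth.Agent.Red23Lib.Rel

/-- Pointwise data satisfying the relations of a rank-one group. -/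
structure Pre (R H T : Type*) [CommRing R] [Group H] [Group T] where
  p : R → H
  I : T →* H
  a : T →* Rˣ
  av : Rˣ →* T
  h : H
  p_add : ∀ x y, p (x + y) = p x * p y
  conj_p : ∀ t x, I t * p x * (I t)⁻¹ = p (a t * x)
  a_av : ∀ v, a (av v) = v ^ 2
  h_I : ∀ t, h * I t * h⁻¹ = I (t * (av (a t))⁻¹)
  h_sq : h ^ 2 = I (av (-1))
  braid : (h * p 1) ^ 3 = 1
  I_comm : ∀ t t', I t * I t' = I t' * I t

namespace Pre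

variable {R H T : Type*} [CommRing R] [Group H] [Group T] (Φ : Pre R H T)

/-- The negative root group. -/
def m (y : R) : H := Φ.h * (Φ.p y)⁻¹ * Φ.h⁻¹

theorem p_zero : Φ.p 0 = 1 := by simpa using Φ.p_add 0 0

theorem p_neg (x : R) : Φ.p (-x) = (Φ.p x)⁻¹ := by
  rw [eq_inv_iff_mul_eq_one, ← Φ.p_add, neg_add_cancel, p_zero]

theorem m_add (x y : R) : Φ.m (x + y) = Φ.m x * Φ.m y := by
  rw [m, m, m, add_comm, Φ.p_add]; group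

theorem I_mul_p (t : T) (x : R) : Φ.I t * Φ.p x = Φ.p (Φ.a t * x) * Φ.I t := by
  rw [← Φ.conj_p, inv_mul_cancel_right]

theorem h_mul_I (t : T) : Φ.h * Φ.I t = Φ.I (t * (Φ.av (Φ.a t))⁻¹) * Φ.h := by
  rw [← Φ.h_I, inv_mul_cancel_right]

/-- The reflected element of the torus. -/
def refl (t : T) : T := t * (Φ.av (Φ.a t))⁻¹

theorem a_refl (t : T) : Φ.a (Φ.refl t) = (Φ.a t)⁻¹ := by
  rw [refl, map_mul, map_inv, Φ.a_av, pow_two, mul_inv_rev, mul_inv_cancel_left]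

theorem refl_refl (t : T) : Φ.refl (Φ.refl t) = t := by
  show Φ.refl t * (Φ.av (Φ.a (Φ.refl t)))⁻¹ = t
  rw [a_refl, map_inv, inv_inv, refl, inv_mul_cancel_right]

theorem I_mul_h (t : T) : Φ.I t * Φ.h = Φ.h * Φ.I (Φ.refl t) := by
  conv_lhs => rw [← Φ.refl_refl t]
  exact (Φ.h_mul_I _).symm

theorem conj_m (t : T) (y : R) : Φ.I t * Φ.m y * (Φ.I t)⁻¹ = Φ.m (((Φ.a t)⁻¹ : Rˣ) * y) := by
  rw [← Φ.a_refl, m, m, ← Φ.conj_p]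
  calc Φ.I t * (Φ.h * (Φ.p y)⁻¹ * Φ.h⁻¹) * (Φ.I t)⁻¹
      = (Φ.I t * Φ.h) * (Φ.p y)⁻¹ * (Φ.I t * Φ.h)⁻¹ := by group
    _ = _ := by rw [I_mul_h]; group

/-- The conjugated braid relation at `x`. -/
def Plus (x : Rˣ) : Prop :=
  Φ.h * Φ.p x * Φ.h = Φ.p (-((x⁻¹ : Rˣ) : R)) * Φ.h⁻¹ * Φ.I (Φ.av x) * Φ.p (-((x⁻¹ : Rˣ) : R))

theorem plus_of_eq (t : T) (x : Rˣ) (ht : Φ.a t = x) : Φ.Plus x := by
  have hb : Φ.h * Φ.p 1 * Φ.h = Φ.p (-1) * Φ.h⁻¹ * Φ.p (-1) := by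
    have e := Φ.braid
    rw [pow_succ, pow_two] at e
    rw [p_neg]
    calc Φ.h * Φ.p 1 * Φ.h = (Φ.h * Φ.p 1 * (Φ.h * Φ.p 1) * (Φ.h * Φ.p 1)) * ((Φ.p 1)⁻¹ * Φ.h⁻¹ * (Φ.p 1)⁻¹) := by
          group
      _ = _ := by rw [e, one_mul]
  have hs : Φ.a (Φ.refl t) = x⁻¹ := by rw [a_refl, ht]
  have hp : Φ.p (x : R) = Φ.I t * Φ.p 1 * (Φ.I t)⁻¹ := by rw [Φ.conj_p, ht, mul_one]
  have hm : Φ.p (-((x⁻¹ : Rˣ) : R)) = Φ.I (Φ.refl t) * Φ.p (-1) * (Φ.I (Φ.refl t))⁻¹ := by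
    rw [Φ.conj_p, hs, mul_neg, mul_one]
  have e1 : Φ.h * Φ.I t = Φ.I (Φ.refl t) * Φ.h := Φ.h_mul_I t
  have e2 : (Φ.I t)⁻¹ * Φ.h = Φ.h * (Φ.I (Φ.refl t))⁻¹ := by
    rw [inv_mul_eq_iff_eq_mul, ← mul_assoc, I_mul_h, mul_inv_cancel_right]
  have e3 : (Φ.I (Φ.refl t))⁻¹ * Φ.h⁻¹ * Φ.I (Φ.av x) * Φ.I (Φ.refl t) = Φ.h⁻¹ := by
    have e4 : Φ.h⁻¹ * (Φ.I t)⁻¹ = (Φ.I (Φ.refl t))⁻¹ * Φ.h⁻¹ := by
      rw [← mul_inv_rev, ← mul_inv_rev, I_mul_h]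
    have e5 : Φ.I (Φ.av x) * Φ.I (Φ.refl t) = Φ.I t := by
      rw [refl, ht, map_mul, map_inv, ← mul_assoc, Φ.I_comm, mul_inv_cancel_right]
    rw [← e4, mul_assoc, e5, inv_mul_cancel_right]
  calc Φ.h * Φ.p x * Φ.h = (Φ.h * Φ.I t) * Φ.p 1 * ((Φ.I t)⁻¹ * Φ.h) := by rw [hp]; group
    _ = Φ.I (Φ.refl t) * (Φ.h * Φ.p 1 * Φ.h) * (Φ.I (Φ.refl t))⁻¹ := by rw [e1, e2]; group
    _ = Φ.I (Φ.refl t) * Φ.p (-1) * ((Φ.I (Φ.refl t))⁻¹ * Φ.h⁻¹ * Φ.I (Φ.av x) * Φ.I (Φ.refl t)) * Φ.p (-1) *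
          (Φ.I (Φ.refl t))⁻¹ := by rw [hb, e3]; group
    _ = _ := by rw [hm]; group

theorem h_pow_four : Φ.h ^ 2 * Φ.h ^ 2 = 1 := by
  rw [Φ.h_sq, ← map_mul, ← map_mul, neg_one_mul, neg_neg, map_one, map_one]

/-- The commutation rule at a pair. -/
def Rule (x y : R) (u : Rˣ) : Prop :=
  Φ.p x * Φ.m y = Φ.m (((u⁻¹ : Rˣ) : R) * y) * Φ.I (Φ.av u) * Φ.p (((u⁻¹ : Rˣ) : R) * x)

theorem rule_of_unit (x : R) (y u : Rˣ) (hu : (u : R) = 1 + x * y) (h₁ : Φ.Plus (-y))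
    (h₂ : Φ.Plus (-(y * u⁻¹))) : Φ.Rule x y u := by
  set z : Rˣ := u * y⁻¹ with hz
  have hzv : x + ((y⁻¹ : Rˣ) : R) = z := by
    rw [hz, Units.val_mul, hu]
    linear_combination (-x) * y.mul_inv
  have i1 : (((-y)⁻¹ : Rˣ) : R) = -((y⁻¹ : Rˣ) : R) := by rw [inv_neg, Units.val_neg]
  have i2 : ((-(y * u⁻¹))⁻¹ : Rˣ) = -z := by rw [inv_neg, mul_inv_rev, inv_inv, hz]
  unfold Plus at h₁ h₂
  rw [i1, neg_neg, Units.val_neg] at h₁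
  rw [i2, Units.val_neg, Units.val_neg, neg_neg] at h₂
  have hA : Φ.I (Φ.av (-y)) * Φ.p ((y⁻¹ : Rˣ) : R) = Φ.p (y : R) * Φ.I (Φ.av (-y)) := by
    rw [I_mul_p, Φ.a_av]
    congr 2
    rw [Units.val_pow_eq_pow_val, Units.val_neg]
    linear_combination (y : R) * y.mul_inv
  have hB : Φ.I (Φ.av (-y)) * (Φ.h ^ 2)⁻¹ = Φ.I (Φ.av y) := by
    rw [Φ.h_sq, ← map_inv, ← map_mul, ← map_inv, ← map_mul, inv_neg, inv_one, neg_mul_neg, mul_one]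
  have hC : Φ.p (z : R) * Φ.h⁻¹ =
      Φ.h * Φ.p (-(((y * u⁻¹ : Rˣ)) : R)) * Φ.h * Φ.p (-(z : R)) * (Φ.I (Φ.av (-(y * u⁻¹))))⁻¹ := by
    rw [h₂, p_neg]; group
  have hD : (Φ.I (Φ.av (-(y * u⁻¹))))⁻¹ * Φ.p (y : R) =
      Φ.p ((z : R) ^ 2 * y) * (Φ.I (Φ.av (-(y * u⁻¹))))⁻¹ := by
    rw [← map_inv, ← map_inv, I_mul_p, Φ.a_av]
    congr 3
    rw [i2, Units.val_pow_eq_pow_val, Units.val_neg, neg_sq]
  have hE : (Φ.I (Φ.av (-(y * u⁻¹))))⁻¹ * Φ.I (Φ.av y) = Φ.I (Φ.av (-u)) := by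
    rw [← map_inv, ← map_inv, ← map_mul, ← map_mul, i2, hz, neg_mul, inv_mul_cancel_right]
  have hF : Φ.p (-(z : R) + (z : R) ^ 2 * y) * Φ.I (Φ.av (-u)) =
      Φ.I (Φ.av (-u)) * Φ.p (((u⁻¹ : Rˣ) : R) * x) := by
    rw [I_mul_p, Φ.a_av]
    congr 2
    rw [hz, Units.val_pow_eq_pow_val, Units.val_neg, Units.val_mul, neg_sq]
    linear_combination ((u : R) * ((y⁻¹ : Rˣ) : R)) * hu + ((u : R) ^ 2 * ((y⁻¹ : Rˣ) : R) + (u : R) * x) * y.mul_inv -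
      (u : R) * x * u.mul_inv
  have hG : Φ.h * Φ.I (Φ.av (-u)) = Φ.h⁻¹ * Φ.I (Φ.av u) := by
    rw [show -u = -1 * u by rw [neg_one_mul], map_mul, map_mul, ← Φ.h_sq, ← mul_assoc]
    congr 1
    rw [eq_inv_iff_mul_eq_one]
    calc Φ.h * Φ.h ^ 2 * Φ.h = Φ.h ^ 2 * Φ.h ^ 2 := by group
      _ = 1 := Φ.h_pow_four
  unfold Rule m
  calc Φ.p x * (Φ.h * (Φ.p (y : R))⁻¹ * Φ.h⁻¹)
      = Φ.p x * (Φ.h * Φ.p (-(y : R)) * Φ.h) * (Φ.h ^ 2)⁻¹ := by rw [p_neg]; group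
    _ = (Φ.p x * Φ.p ((y⁻¹ : Rˣ) : R)) * Φ.h⁻¹ * (Φ.I (Φ.av (-y)) * Φ.p ((y⁻¹ : Rˣ) : R)) * (Φ.h ^ 2)⁻¹ := by
        rw [h₁]; group
    _ = (Φ.p (z : R) * Φ.h⁻¹) * Φ.p (y : R) * (Φ.I (Φ.av (-y)) * (Φ.h ^ 2)⁻¹) := by
        rw [← Φ.p_add, hzv, hA]; group
    _ = Φ.h * Φ.p (-(((y * u⁻¹ : Rˣ)) : R)) * Φ.h * Φ.p (-(z : R)) *
          ((Φ.I (Φ.av (-(y * u⁻¹))))⁻¹ * Φ.p (y : R)) * Φ.I (Φ.av y) := by rw [hC, hB]; group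
    _ = Φ.h * Φ.p (-(((y * u⁻¹ : Rˣ)) : R)) * Φ.h * (Φ.p (-(z : R)) * Φ.p ((z : R) ^ 2 * y)) *
          ((Φ.I (Φ.av (-(y * u⁻¹))))⁻¹ * Φ.I (Φ.av y)) := by rw [hD]; group
    _ = Φ.h * Φ.p (-(((y * u⁻¹ : Rˣ)) : R)) * Φ.h *
          (Φ.p (-(z : R) + (z : R) ^ 2 * y) * Φ.I (Φ.av (-u))) := by rw [hE, ← Φ.p_add]; group
    _ = Φ.h * Φ.p (-(((y * u⁻¹ : Rˣ)) : R)) * (Φ.h * Φ.I (Φ.av (-u))) * Φ.p (((u⁻¹ : Rˣ) : R) * x) := by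
        rw [hF]; group
    _ = _ := by
        rw [hG, Units.val_mul, mul_comm (y : R), p_neg]; group

theorem rule_add (x y : R) (u v w : Rˣ) (c : R) (hv : (v : R) = 1 + x * c) (hu : (u : R) = 1 + x * y)
    (hw : w = u * v⁻¹) (h₁ : Φ.Rule x c v) (h₂ : Φ.Rule (((v⁻¹ : Rˣ) : R) * x) (y - c) w) : Φ.Rule x y u := by
  have hm : ∀ (t : T) (z : R), Φ.I t * Φ.m z = Φ.m (((Φ.a t)⁻¹ : Rˣ) * z) * Φ.I t := fun t z => by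
    rw [← Φ.conj_m, inv_mul_cancel_right]
  have hvw : v * w = u := by rw [hw, mul_comm v, inv_mul_cancel_right]
  have hwi : ((w⁻¹ : Rˣ) : R) = ((u⁻¹ : Rˣ) : R) * v := by rw [hw, mul_inv_rev, inv_inv, Units.val_mul, mul_comm]
  unfold Rule at *
  calc Φ.p x * Φ.m y = Φ.p x * Φ.m c * Φ.m (y - c) := by rw [mul_assoc, ← m_add, add_sub_cancel]
    _ = Φ.m (((v⁻¹ : Rˣ) : R) * c) * Φ.I (Φ.av v) * (Φ.p (((v⁻¹ : Rˣ) : R) * x) * Φ.m (y - c)) := by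
        rw [h₁]; group
    _ = Φ.m (((v⁻¹ : Rˣ) : R) * c) * (Φ.I (Φ.av v) * Φ.m (((w⁻¹ : Rˣ) : R) * (y - c))) * Φ.I (Φ.av w) *
          Φ.p (((w⁻¹ : Rˣ) : R) * (((v⁻¹ : Rˣ) : R) * x)) := by rw [h₂]; group
    _ = (Φ.m (((v⁻¹ : Rˣ) : R) * c) * Φ.m (((Φ.a (Φ.av v))⁻¹ : Rˣ) * (((w⁻¹ : Rˣ) : R) * (y - c)))) *
          (Φ.I (Φ.av v) * Φ.I (Φ.av w)) * Φ.p (((w⁻¹ : Rˣ) : R) * (((v⁻¹ : Rˣ) : R) * x)) := by rw [hm]; group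
    _ = _ := by
        rw [← m_add, ← map_mul, ← map_mul, hvw, Φ.a_av, hwi, ← inv_pow, Units.val_pow_eq_pow_val,
          show ((u⁻¹ : Rˣ) : R) * v * (((v⁻¹ : Rˣ) : R) * x) = ((u⁻¹ : Rˣ) : R) * x by
            linear_combination ((u⁻¹ : Rˣ) : R) * x * v.mul_inv]
        congr 3
        linear_combination (((u⁻¹ : Rˣ) : R) * ((v⁻¹ : Rˣ) : R) * (y - c) - ((v⁻¹ : Rˣ) : R) * c) * v.mul_inv -
          ((v⁻¹ : Rˣ) : R) * c * u.inv_mul + ((u⁻¹ : Rˣ) : R) * y * v.mul_inv +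
          (((u⁻¹ : Rˣ) : R) * ((v⁻¹ : Rˣ) : R) * c) * hu - (((u⁻¹ : Rˣ) : R) * ((v⁻¹ : Rˣ) : R) * y) * hv +
          ((v⁻¹ : Rˣ) : R) * c * v.mul_inv

end Pre

end Groth.Agent.Red23Lib.Rel
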