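import Groth.Agent.Red23Lib.RankOneRelPts

/-!
# The relations hold in a rank-one group
-/

set_option autoImplicit false
set_option linter.style.haveILetI false

universe u

open CategoryTheory CategoryTheory.Limits AlgebraicGeometry MonoidalCategory CartesianMonoidalCategory
open Groth.Agent.GrpSchLib Groth.Agent.GrpSchLib.RankOne
open scoped MonObj

noncomputable section

namespace Groth.Agent.Red23Lib.Rel

variable {S : Scheme.{u}}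

/-- The unit constant. -/
theorem toUnit_e (X : Over S) (e : 𝟙_ (Over S) ⟶ Red.Ga S) (v : ℤ) (he : Red.gaFn e = (v : Γ((𝟙_ (Over S)).left, ⊤))) :
    toUnit X ≫ e = GaPts.ptOfFn (v : Γ(X.left, ⊤)) :=
  GaPts.gaFn_injective (by simp only [GaPts.gaFn_comp, he, GaPts.gaFn_ptOfFn, map_intCast])

theorem toUnit_m (X : Over S) (m : 𝟙_ (Over S) ⟶ Red.Gm S) (hm : Red.gmFn m = -1) :
    toUnit X ≫ m = GmPts.ptOfUnit (-1) :=
  GmPts.gmFn_injective (by simp [GmPts.gmFn_comp, hm, GmPts.gmFn_ptOfUnit])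

variable {G T : Over S} [GrpObj G] [GrpObj T] {i : T ⟶ G} [IsMonHom i] {α : T ⟶ Red.Gm S} [IsMonHom α]
  {pp pm : Red.Ga S ⟶ G} [IsMonHom pp] [IsMonHom pm]
  {av : Red.Gm S ⟶ T} [IsMonHom av]
  (hpp : ∀ (X : Over S) (t : X ⟶ T) (x : X ⟶ Red.Ga S), ∃ x' : X ⟶ Red.Ga S,
    x' ≫ pp = (t ≫ i) * (x ≫ pp) * (t ≫ i)⁻¹ ∧ Red.gaFn x' = Red.gmFn (t ≫ α) * Red.gaFn x)
  (hpm : ∀ (X : Over S) (t : X ⟶ T) (y : X ⟶ Red.Ga S), ∃ y' : X ⟶ Red.Ga S,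
    y' ≫ pm = (t ≫ i) * (y ≫ pm) * (t ≫ i)⁻¹ ∧ Red.gaFn y' * Red.gmFn (t ≫ α) = Red.gaFn y)
  (h2 : av ≫ α = (𝟙 (Red.Gm S)) ^ 2)
  (hF : ∀ (X : Over S) (x y : X ⟶ Red.Ga S), IsUnit (1 + Red.gaFn x * Red.gaFn y) →
    ∃ (x' y' : X ⟶ Red.Ga S) (z : X ⟶ Red.Gm S), Red.gmFn z = 1 + Red.gaFn x * Red.gaFn y ∧
      Red.gaFn x' * Red.gmFn z = Red.gaFn x ∧ Red.gaFn y' * Red.gmFn z = Red.gaFn y ∧
      (x ≫ pp) * (y ≫ pm) = (y' ≫ pm) * (z ≫ av ≫ i) * (x' ≫ pp))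
  {e₁ em : 𝟙_ (Over S) ⟶ Red.Ga S} (he₁ : Red.gaFn e₁ = 1) (hem : Red.gaFn em = -1)

include hpp hpm h2 hF he₁ hem

theorem weyl_eq (X : Over S) :
    toUnit X ≫ ((e₁ ≫ pp) * (em ≫ pm) * (e₁ ≫ pp)) = (sys i α pp pm hpp hpm av h2 hF X).w 1 := by
  simp only [MonObj.comp_mul, ← Category.assoc]
  rw [toUnit_e X e₁ 1 (by simpa using he₁), toUnit_e X em (-1) (by simpa using hem)]
  simp [Sys.w, sys]

theorem weyl_conj_unit (X : Over S) (x : (Γ(X.left, ⊤))ˣ) :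
    (sys i α pp pm hpp hpm av h2 hF X).w 1 * (sys i α pp pm hpp hpm av h2 hF X).p (x : Γ(X.left, ⊤)) *
      ((sys i α pp pm hpp hpm av h2 hF X).w 1)⁻¹ = (sys i α pp pm hpp hpm av h2 hF X).m (-(x : Γ(X.left, ⊤))) := by
  have hb := braid i α pp pm hpp hpm av h2 hF X (-x)
  set Φ := sys i α pp pm hpp hpm av h2 hF X
  simp only [inv_neg, Units.val_neg, neg_neg] at hb
  have hwx : Φ.w x * Φ.p (x : Γ(X.left, ⊤)) = Φ.m (-((x⁻¹ : _ˣ) : Γ(X.left, ⊤))) * Φ.w x := by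
    conv_lhs => rw [← hb]
    simp only [Sys.w]; group
  have hc := Φ.conj_m (Φ.av x⁻¹) (-((x⁻¹ : _ˣ) : Γ(X.left, ⊤)))
  rw [Φ.a_av, map_inv, map_inv, inv_inv] at hc
  have e : Φ.w 1 = (Φ.I (Φ.av x))⁻¹ * Φ.w x := by
    rw [eq_inv_mul_iff_mul_eq, ← Φ.w_mul, mul_one]
  rw [e]
  calc (Φ.I (Φ.av x))⁻¹ * Φ.w x * Φ.p (x : Γ(X.left, ⊤)) * ((Φ.I (Φ.av x))⁻¹ * Φ.w x)⁻¹
      = (Φ.I (Φ.av x))⁻¹ * (Φ.w x * Φ.p (x : Γ(X.left, ⊤))) * (Φ.w x)⁻¹ * Φ.I (Φ.av x) := by group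
    _ = (Φ.I (Φ.av x))⁻¹ * Φ.m (-((x⁻¹ : _ˣ) : Γ(X.left, ⊤))) * Φ.I (Φ.av x) := by rw [hwx]; group
    _ = _ := by
      rw [hc, inv_pow, inv_inv, Units.val_pow_eq_pow_val]
      congr 1
      linear_combination (-(x : Γ(X.left, ⊤))) * x.mul_inv

/-- The Weyl element exchanges the root groups. -/
theorem weyl_conj (X : Over S) (x : Γ(X.left, ⊤)) :
    (sys i α pp pm hpp hpm av h2 hF X).w 1 * (sys i α pp pm hpp hpm av h2 hF X).p x *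
      ((sys i α pp pm hpp hpm av h2 hF X).w 1)⁻¹ = (sys i α pp pm hpp hpm av h2 hF X).m (-x) := by
  let P : Polynomial Γ(X.left, ⊤) := Polynomial.X * (Polynomial.C x - Polynomial.X)
  haveI : Module.FaithfullyFlat Γ(X.left, ⊤) (Localization.Away P) := faithfullyFlat_away P fun p => by
    simp only [P, Polynomial.map_mul, Polynomial.map_sub, Polynomial.map_X, Polynomial.map_C]
    refine mul_ne_zero Polynomial.X_ne_zero ?_
    intro h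
    simpa using congrArg (fun q => Polynomial.coeff q 1) h
  obtain ⟨X', f, ρ, _, hρ⟩ := exists_epi_ff X (Localization.Away P)
  let σ : Polynomial Γ(X.left, ⊤) →+* Γ(X'.left, ⊤) := ρ.comp (algebraMap _ (Localization.Away P))
  have hσC : σ (Polynomial.C x) = f.left.appTop x := by
    rw [← hρ, IsScalarTower.algebraMap_apply Γ(X.left, ⊤) (Polynomial Γ(X.left, ⊤)) (Localization.Away P),
      Polynomial.algebraMap_eq]
    rfl
  have hPu : IsUnit (σ P) := (IsLocalization.Away.algebraMap_isUnit P).map ρ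
  simp only [P, map_mul, map_sub, hσC, IsUnit.mul_iff] at hPu
  obtain ⟨⟨c, hc⟩, d, hd⟩ := hPu
  have h1 := weyl_conj_unit hpp hpm h2 hF he₁ hem X' c
  have h3 := weyl_conj_unit hpp hpm h2 hF he₁ hem X' d
  set Φ' := sys i α pp pm hpp hpm av h2 hF X'
  have h4 : Φ'.w 1 * Φ'.p (f.left.appTop x) * (Φ'.w 1)⁻¹ = Φ'.m (-(f.left.appTop x)) := by
    rw [show f.left.appTop x = (c : Γ(X'.left, ⊤)) + d by rw [hd, hc]; ring, Φ'.p_add, neg_add, Φ'.m_add, ← h1, ← h3]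
    group
  rw [← cancel_epi f, MonObj.comp_mul, MonObj.comp_mul, GrpObj.comp_inv,
    ← weyl_eq hpp hpm h2 hF he₁ hem, ← Category.assoc, comp_toUnit, weyl_eq hpp hpm h2 hF he₁ hem]
  rw [show f ≫ (sys i α pp pm hpp hpm av h2 hF X).p x = Φ'.p (f.left.appTop x) by
      show f ≫ GaPts.ptOfFn x ≫ pp = GaPts.ptOfFn (f.left.appTop x) ≫ pp
      rw [← Category.assoc, map_gaFn_ptOfFn],
    show f ≫ (sys i α pp pm hpp hpm av h2 hF X).m (-x) = Φ'.m (-(f.left.appTop x)) by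
      show f ≫ GaPts.ptOfFn (-x) ≫ pm = GaPts.ptOfFn (-(f.left.appTop x)) ≫ pm
      rw [← Category.assoc, map_gaFn_ptOfFn, map_neg]]
  exact h4

/-- The relation between the Weyl element and the unipotent element. -/
theorem weyl_cube (X : Over S) :
    ((sys i α pp pm hpp hpm av h2 hF X).w 1 * (sys i α pp pm hpp hpm av h2 hF X).p 1) ^ 3 = 1 := by
  have hb := braid i α pp pm hpp hpm av h2 hF X (-1)
  set Φ := sys i α pp pm hpp hpm av h2 hF X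
  simp only [inv_neg, inv_one, Units.val_neg, Units.val_one, neg_neg] at hb
  have h4 : Φ.w 1 ^ 2 * Φ.w 1 ^ 2 = 1 := by
    rw [Φ.w_sq, ← map_mul, ← map_mul, neg_one_mul, neg_neg, map_one, map_one]
  have e : Φ.w 1 * Φ.p 1 = (Φ.m (-1) * Φ.p 1) * (Φ.m (-1) * Φ.p 1) := by
    rw [← hb]; group
  calc (Φ.w 1 * Φ.p 1) ^ 3
      = ((Φ.m (-1) * Φ.p 1 * Φ.m (-1)) * (Φ.p 1 * Φ.m (-1) * Φ.p 1)) *
          ((Φ.m (-1) * Φ.p 1 * Φ.m (-1)) * (Φ.p 1 * Φ.m (-1) * Φ.p 1)) := by rw [e]; simp only [pow_succ, pow_zero, _root_.one_mul, _root_.mul_assoc]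
    _ = (Φ.w 1 * Φ.w 1) * (Φ.w 1 * Φ.w 1) := by
        rw [hb]
        simp [Sys.w]
    _ = 1 := by rw [← pow_two (Φ.w 1)]; exact h4

end Groth.Agent.Red23Lib.Rel
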