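import Groth.Agent.Red23Lib.RankOneRel
import Groth.Agent.Red23Lib.RankOneHomExt
import Mathlib.RingTheory.LocalRing.ResidueField.Ideal

/-!
# Points of a rank-one datum given by relations satisfy the commutation rule
-/

set_option autoImplicit false
set_option linter.style.haveILetI false

universe u

open CategoryTheory CategoryTheory.Limits AlgebraicGeometry MonoidalCategory CartesianMonoidalCategory
open Groth.Agent.GrpSchLib Groth.Agent.GrpSchLib.RankOne
open scoped MonObj

noncomputable section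

namespace Groth.Agent.Red23Lib.Rel

variable {S : Scheme.{u}}

set_option backward.isDefEq.respectTransparency.types false in
/-- A faithfully flat algebra over the functions gives an epimorphism with those functions. -/
theorem exists_epi_ff (X : Over S) (A' : Type u) [CommRing A'] [Algebra Γ(X.left, ⊤) A']
    [Module.FaithfullyFlat Γ(X.left, ⊤) A'] :
    ∃ (X' : Over S) (f : X' ⟶ X) (ρ : A' →+* Γ(X'.left, ⊤)), Epi f ∧
      ∀ v, ρ (algebraMap Γ(X.left, ⊤) A' v) = f.left.appTop v := by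
  let φ : Γ(X.left, ⊤) ⟶ CommRingCat.of A' := CommRingCat.ofHom (algebraMap Γ(X.left, ⊤) A')
  let q : Spec (CommRingCat.of A') ⟶ Spec Γ(X.left, ⊤) := Spec.map φ
  haveI : Flat q := (Flat.SpecMap_iff (f := φ)).2 (RingHom.flat_algebraMap_iff.2 inferInstance)
  haveI : Surjective q := ⟨(RingHom.FaithfullyFlat.iff_flat_and_comap_surjective.1
    (RingHom.faithfullyFlat_algebraMap_iff.2 ‹Module.FaithfullyFlat Γ(X.left, ⊤) A'›)).2⟩
  let g := X.left.toSpecΓ
  let X' : Over S := Over.mk (pullback.fst g q ≫ X.hom)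
  let f : X' ⟶ X := Over.homMk (pullback.fst g q) rfl
  haveI : Flat f.left := MorphismProperty.pullback_fst (P := @Flat) g q inferInstance
  haveI : Surjective f.left := MorphismProperty.pullback_fst (P := @Surjective) g q inferInstance
  haveI := Flat.epi_of_flat_of_surjective f.left
  refine ⟨X', f, ((Scheme.ΓSpecIso (CommRingCat.of A')).inv ≫ (pullback.snd g q).appTop).hom,
    Over.epi_of_epi_left f, fun v => ?_⟩
  have h1 := congrArg (fun m => m.appTop) (pullback.condition (f := g) (g := q))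
  simp only [Scheme.Hom.comp_appTop] at h1
  have h2 : φ ≫ (Scheme.ΓSpecIso (CommRingCat.of A')).inv ≫ (pullback.snd g q).appTop =
      (pullback.fst g q).appTop := by
    rw [Scheme.ΓSpecIso_inv_naturality_assoc, ← h1, Scheme.toSpecΓ_appTop, Iso.inv_hom_id_assoc]
  exact congrArg (fun m => m v) h2

/-- A polynomial with no fibre identically zero gives a faithfully flat localization. -/
theorem faithfullyFlat_away {A : Type u} [CommRing A] (P : Polynomial A)
    (hP : ∀ p : PrimeSpectrum A, P.map (algebraMap A p.asIdeal.ResidueField) ≠ 0) :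
    Module.FaithfullyFlat A (Localization.Away P) := by
  haveI : Module.Flat (Polynomial A) (Localization.Away P) := IsLocalization.flat _ (Submonoid.powers P)
  haveI : Module.Flat A (Localization.Away P) := Module.Flat.trans A (Polynomial A) _
  rw [← RingHom.faithfullyFlat_algebraMap_iff, RingHom.FaithfullyFlat.iff_flat_and_comap_surjective]
  refine ⟨RingHom.flat_algebraMap_iff.2 inferInstance, fun p => ?_⟩
  let κ := p.asIdeal.ResidueField
  let θ : Polynomial A →+* FractionRing (Polynomial κ) :=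
    (algebraMap (Polynomial κ) (FractionRing (Polynomial κ))).comp (Polynomial.mapRingHom (algebraMap A κ))
  have hθ : IsUnit (θ P) := by
    refine isUnit_iff_ne_zero.2 fun h => hP p (IsFractionRing.injective _ (FractionRing (Polynomial κ)) ?_)
    rw [map_zero]
    exact h
  let Θ : Localization.Away P →+* FractionRing (Polynomial κ) := IsLocalization.Away.lift P hθ
  refine ⟨⟨RingHom.ker Θ, RingHom.ker_isPrime Θ⟩, PrimeSpectrum.ext ?_⟩
  refine Ideal.ext fun a => ?_
  show Θ (algebraMap A (Localization.Away P) a) = 0 ↔ a ∈ p.asIdeal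
  rw [IsScalarTower.algebraMap_apply A (Polynomial A) (Localization.Away P), IsLocalization.Away.lift_eq,
    Polynomial.algebraMap_eq]
  simp only [θ, RingHom.comp_apply, Polynomial.coe_mapRingHom, Polynomial.map_C]
  rw [map_eq_zero_iff _ (IsFractionRing.injective _ _), Polynomial.C_eq_zero]
  exact Ideal.algebraMap_residueField_eq_zero

variable {T H : Over S} [GrpObj T] [GrpObj H] (α : T ⟶ Red.Gm S) [IsMonHom α] (av : Red.Gm S ⟶ T) [IsMonHom av]
  (fT : T ⟶ H) [IsMonHom fT] (fα : Red.Ga S ⟶ H) [IsMonHom fα] (h : 𝟙_ (Over S) ⟶ H)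

/-- The relations. -/
structure Relations : Prop where
  h2 : av ≫ α = (𝟙 (Red.Gm S)) ^ 2
  hT : Red.IsTorus T
  rel1 : ∀ (X : Over S) (t : X ⟶ T) (x x' : X ⟶ Red.Ga S), Red.gaFn x' = Red.gmFn (t ≫ α) * Red.gaFn x →
    (t ≫ fT) * (x ≫ fα) * (t ≫ fT)⁻¹ = x' ≫ fα
  rel2 : ∀ (X : Over S) (t : X ⟶ T),
    (toUnit X ≫ h) * (t ≫ fT) * (toUnit X ≫ h)⁻¹ = (t * (t ≫ α ≫ av)⁻¹) ≫ fT
  rel3 : ∀ X : Over S, (toUnit X ≫ h) ^ 2 = GmPts.ptOfUnit (-1) ≫ av ≫ fT
  rel4 : ∀ X : Over S, ((toUnit X ≫ h) * (GaPts.ptOfFn 1 ≫ fα)) ^ 3 = (1 : X ⟶ H)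

variable {α av fT fα h} (hR : Relations α av fT fα h)

/-- The pointwise data. -/
def pre (X : Over S) : Pre Γ(X.left, ⊤) (X ⟶ H) (X ⟶ T) where
  p v := GaPts.ptOfFn v ≫ fα
  I := { toFun := fun t => t ≫ fT, map_one' := MonObj.one_comp fT, map_mul' := fun t t' => MonObj.mul_comp t t' fT }
  a := MonoidHom.mk' (fun t => GmPts.unitOfPt (t ≫ α)) fun t t' => by rw [MonObj.mul_comp t t' α, GmPts.unitOfPt_mul]
  av := MonoidHom.mk' (fun v => GmPts.ptOfUnit v ≫ av) fun v w => by rw [GmPts.ptOfUnit_mul, MonObj.mul_comp]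
  h := toUnit X ≫ h
  p_add x y := by
    rw [← MonObj.mul_comp _ _ fα]
    exact congrArg (· ≫ fα) (GaPts.gaFn_injective (by simp only [GaPts.gaFn_mul, GaPts.gaFn_ptOfFn]))
  conj_p t x := hR.rel1 X t _ _ (by simp only [GaPts.gaFn_ptOfFn]; rfl)
  a_av v := by
    show GmPts.unitOfPt ((GmPts.ptOfUnit v ≫ av) ≫ α) = v ^ 2
    rw [Category.assoc, hR.h2, MonObj.comp_pow, Category.comp_id, pow_two, GmPts.unitOfPt_mul,
      GmPts.unitOfPt_ptOfUnit, pow_two]
  h_I t := by
    show (toUnit X ≫ h) * (t ≫ fT) * (toUnit X ≫ h)⁻¹ = (t * (GmPts.ptOfUnit (GmPts.unitOfPt (t ≫ α)) ≫ av)⁻¹) ≫ fT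
    rw [GmPts.ptOfUnit_unitOfPt, Category.assoc]
    exact hR.rel2 X t
  h_sq := (hR.rel3 X).trans (Category.assoc _ _ _).symm
  braid := hR.rel4 X
  I_comm t t' := by
    show (t ≫ fT) * (t' ≫ fT) = (t' ≫ fT) * (t ≫ fT)
    rw [← MonObj.mul_comp, torus_mul_comm hR.hT, MonObj.mul_comp]

/-- Pulling a value back. -/
theorem comp_pt {X X' : Over S} (f : X' ⟶ X) (v : Γ(X.left, ⊤)) :
    f ≫ (pre hR X).p v = (pre hR X').p (f.left.appTop v) := by
  show f ≫ GaPts.ptOfFn v ≫ fα = GaPts.ptOfFn (f.left.appTop v) ≫ fα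
  rw [← Category.assoc, map_gaFn_ptOfFn]

theorem comp_h {X X' : Over S} (f : X' ⟶ X) : f ≫ (pre hR X).h = (pre hR X').h := by
  show f ≫ toUnit X ≫ h = toUnit X' ≫ h
  rw [comp_toUnit_assoc]

theorem comp_av {X X' : Over S} (f : X' ⟶ X) (z : (Γ(X.left, ⊤))ˣ) :
    f ≫ (pre hR X).I ((pre hR X).av z) = (pre hR X').I ((pre hR X').av (Units.map f.left.appTop.hom.toMonoidHom z)) := by
  show f ≫ (GmPts.ptOfUnit z ≫ av) ≫ fT = (GmPts.ptOfUnit _ ≫ av) ≫ fT
  rw [← Category.assoc, ← Category.assoc, GmPts.ptOfUnit_comp]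

theorem comp_m {X X' : Over S} (f : X' ⟶ X) (v : Γ(X.left, ⊤)) :
    f ≫ (pre hR X).m v = (pre hR X').m (f.left.appTop v) := by
  simp only [Pre.m, MonObj.comp_mul, GrpObj.comp_inv, comp_h, comp_pt]

include hR in
/-- The conjugated braid relation at every unit. -/
theorem plus (X : Over S) (x : (Γ(X.left, ⊤))ˣ) : (pre hR X).Plus x := by
  let P : Polynomial Γ(X.left, ⊤) := Polynomial.X ^ 2 - Polynomial.C (x : Γ(X.left, ⊤))
  have hP : P.Monic := Polynomial.monic_X_pow_sub_C _ two_ne_zero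
  let A' := AdjoinRoot P
  haveI : Module.Free Γ(X.left, ⊤) A' := hP.free_adjoinRoot
  haveI : Module.Finite Γ(X.left, ⊤) A' := hP.finite_adjoinRoot
  rcases subsingleton_or_nontrivial Γ(X.left, ⊤) with hs | hs
  · refine (pre hR X).plus_of_eq 1 x ?_
    exact Units.ext (Subsingleton.elim _ _)
  haveI : Nontrivial A' := nontrivial_of_ne (1 : A') 0 (by
    rw [← map_one (AdjoinRoot.mk P)]
    exact AdjoinRoot.mk_ne_zero_of_natDegree_lt hP one_ne_zero
      (by rw [Polynomial.natDegree_one, Polynomial.natDegree_X_pow_sub_C]; norm_num))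
  haveI : Module.FaithfullyFlat Γ(X.left, ⊤) A' := inferInstance
  obtain ⟨X', f, ρ, _, hρ⟩ := exists_epi_ff X A'
  have hsq : ρ (AdjoinRoot.root P) * ρ (AdjoinRoot.root P) = f.left.appTop (x : Γ(X.left, ⊤)) := by
    have h : AdjoinRoot.mk P P = 0 := AdjoinRoot.mk_self
    simp only [P, map_sub, map_pow, AdjoinRoot.mk_X, AdjoinRoot.mk_C] at h
    rw [← hρ, ← map_mul]
    refine congrArg ρ ?_
    rw [AdjoinRoot.algebraMap_eq]
    linear_combination h
  obtain ⟨r, hr⟩ : IsUnit (ρ (AdjoinRoot.root P)) :=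
    isUnit_of_mul_isUnit_left (hsq ▸ x.isUnit.map f.left.appTop.hom)
  have h1 := (pre hR X').plus_of_eq ((pre hR X').av r) (Units.map f.left.appTop.hom.toMonoidHom x) (by
    rw [Pre.a_av]
    refine Units.ext ?_
    rw [Units.val_pow_eq_pow_val, hr, pow_two, hsq]
    rfl)
  unfold Pre.Plus at h1 ⊢
  rw [← cancel_epi f]
  simp only [MonObj.comp_mul, GrpObj.comp_inv, comp_h, comp_pt, comp_av, map_neg]
  rw [← map_inv] at h1
  exact h1

include hR in
/-- The commutation rule everywhere. -/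
theorem rule (X : Over S) (x y : Γ(X.left, ⊤)) (u : (Γ(X.left, ⊤))ˣ) (hu : (u : Γ(X.left, ⊤)) = 1 + x * y) :
    (pre hR X).Rule x y u := by
  let P : Polynomial Γ(X.left, ⊤) :=
    Polynomial.X * (Polynomial.C y - Polynomial.X) * (1 + Polynomial.C x * Polynomial.X)
  haveI : Module.FaithfullyFlat Γ(X.left, ⊤) (Localization.Away P) := faithfullyFlat_away P fun p => by
    simp only [P, Polynomial.map_mul, Polynomial.map_sub, Polynomial.map_add, Polynomial.map_one, Polynomial.map_X,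
      Polynomial.map_C]
    refine mul_ne_zero (mul_ne_zero Polynomial.X_ne_zero ?_) ?_
    · intro h
      simpa using congrArg (fun q => Polynomial.coeff q 1) h
    · intro h
      simpa using congrArg (fun q => Polynomial.coeff q 0) h
  obtain ⟨X', f, ρ, _, hρ⟩ := exists_epi_ff X (Localization.Away P)
  let σ : Polynomial Γ(X.left, ⊤) →+* Γ(X'.left, ⊤) := ρ.comp (algebraMap _ (Localization.Away P))
  have hσC : ∀ v, σ (Polynomial.C v) = f.left.appTop v := fun v => by
    rw [← hρ, IsScalarTower.algebraMap_apply Γ(X.left, ⊤) (Polynomial Γ(X.left, ⊤)) (Localization.Away P),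
      Polynomial.algebraMap_eq]
    rfl
  have hPu : IsUnit (σ P) := (IsLocalization.Away.algebraMap_isUnit P).map ρ
  simp only [P, map_mul, map_sub, map_add, map_one, hσC, IsUnit.mul_iff] at hPu
  obtain ⟨⟨⟨c, hc⟩, d, hd⟩, v, hv⟩ := hPu
  set x' := f.left.appTop x
  set y' := f.left.appTop y
  have hu' : ((Units.map f.left.appTop.hom.toMonoidHom u : (Γ(X'.left, ⊤))ˣ) : Γ(X'.left, ⊤)) = 1 + x' * y' := by
    show f.left.appTop (u : Γ(X.left, ⊤)) = _
    rw [hu, map_add, map_one, map_mul]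
  set u' := Units.map f.left.appTop.hom.toMonoidHom u with hu''
  rw [← hc] at hd hv
  have e1 := (pre hR X').rule_of_unit x' c v hv (plus hR X' _) (plus hR X' _)
  have e2 := (pre hR X').rule_of_unit (((v⁻¹ : _ˣ) : Γ(X'.left, ⊤)) * x') d (u' * v⁻¹) (by
    rw [Units.val_mul, hu', hd]
    linear_combination (-((v⁻¹ : _ˣ) : Γ(X'.left, ⊤))) * hv + v.inv_mul) (plus hR X' _) (plus hR X' _)
  rw [hd] at e2
  have e3 := (pre hR X').rule_add x' y' u' v _ c hv hu' rfl e1 e2
  unfold Pre.Rule at e3 ⊢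
  rw [← cancel_epi f]
  simp only [MonObj.comp_mul, comp_pt, comp_m, comp_av, map_mul]
  rw [hu'', ← map_inv] at e3
  exact e3

end Groth.Agent.Red23Lib.Rel
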